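import Mathlib

/-!
# Field data: the group theory (task PPD-FD2 of S5948)

`FD p T` : the conclusion of the tasks `fd_X`; `fd_abs` : `T` has an automorphism `Φ` and an element `x` with
`Φ x = x ^ p` and `x ^ i = 1 ↔ p ^ f - 1 ∣ 2 i`, and `|Aut T| = d f |T|` with `d` prime to the primes `≥ 7`.
-/

set_option autoImplicit false

namespace Cfsg.Agent.H14.FdAbs

/-- Field data. -/
def FD (p : ℕ) (T : Type*) [Group T] : Prop :=
  ∃ (b c : ℕ) (φ : MulAut T) (x : T), Nat.card (MulAut T) = Nat.card T * (c * b) ∧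
    (∀ r : ℕ, r.Prime → 7 ≤ r → r ∣ c → r ∣ Nat.card T) ∧ orderOf φ = b ∧ φ x = x ^ p ∧
    ¬ p ∣ orderOf x ∧ ∀ s : ℕ, x ^ p ^ s = x → b ∣ s

theorem dvd_of_sub_one_dvd {p b s : ℕ} (hp : 2 ≤ p) (h : p ^ b - 1 ∣ 2 * (p ^ s - 1)) : b ∣ s := by
  rcases Nat.eq_zero_or_pos b with hb | hb
  · subst hb
    rw [pow_zero, Nat.sub_self, Nat.zero_dvd] at h
    rcases Nat.eq_zero_or_pos s with hs | hs
    · rw [hs]
    · exfalso
      have h1 : 2 ≤ p ^ s := le_trans hp (Nat.le_self_pow hs.ne' p)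
      omega
  have h1 : p ^ b - 1 ∣ 2 * (p ^ Nat.gcd b s - 1) := by
    rw [← Nat.pow_sub_one_gcd_pow_sub_one, ← Nat.gcd_mul_left]
    exact Nat.dvd_gcd (Dvd.intro_left _ rfl) h
  set d := Nat.gcd b s with hd
  have hdb : d ∣ b := Nat.gcd_dvd_left b s
  by_cases hdb' : d = b
  · rw [← hdb']; exact Nat.gcd_dvd_right b s
  exfalso
  have hd0 : 0 < d := Nat.gcd_pos_of_pos_left _ hb
  obtain ⟨k, hk⟩ := hdb
  have hk2 : 2 ≤ k := by
    by_contra hlt
    have : k = 0 ∨ k = 1 := by omega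
    rcases this with h2 | h2
    · rw [h2, mul_zero] at hk; omega
    · rw [h2, mul_one] at hk; exact hdb' hk.symm
  have h2 : 2 ≤ p ^ d := le_trans hp (Nat.le_self_pow hd0.ne' p)
  have h3 : p ^ d * p ^ d ≤ p ^ b := by
    rw [← pow_add]
    apply Nat.pow_le_pow_right (by omega)
    rw [hk]
    nlinarith
  have h4 : p ^ b - 1 ≤ 2 * (p ^ d - 1) := Nat.le_of_dvd (by omega) h1
  have h5 : 2 * p ^ d ≤ p ^ d * p ^ d := Nat.mul_le_mul_right _ h2
  omega

theorem exists_split (N : ℕ) : ∀ f : ℕ, 0 < f → ∃ f1 b : ℕ, f = f1 * b ∧ Nat.Coprime f1 b ∧ Nat.Coprime b N ∧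
    ∀ r : ℕ, r.Prime → r ∣ f1 → r ∣ N := by
  intro f
  induction f using Nat.strong_induction_on with
  | _ f ih =>
    intro hf
    by_cases hc : Nat.Coprime f N
    · refine ⟨1, f, (one_mul f).symm, Nat.coprime_one_left _, hc, ?_⟩
      intro r hr h1
      exact absurd (Nat.dvd_one.1 h1) hr.one_lt.ne'
    · obtain ⟨r, hr, hrf, hrN⟩ := Nat.Prime.not_coprime_iff_dvd.1 hc
      obtain ⟨k, f', hrf', hk⟩ := Nat.exists_eq_pow_mul_and_not_dvd hf.ne' r hr.one_lt.ne'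
      have hf' : 0 < f' := by
        rcases Nat.eq_zero_or_pos f' with h0 | h0
        · subst h0; exact absurd (dvd_zero _) hrf'
        · exact h0
      have hk0 : k ≠ 0 := by
        rintro rfl
        rw [pow_zero, one_mul] at hk
        exact hrf' (hk ▸ hrf)
      have hlt : f' < f := by
        rw [hk]
        have h2 : 2 ≤ r ^ k := le_trans hr.two_le (Nat.le_self_pow hk0 r)
        nlinarith
      obtain ⟨f1, b, e, h1, h2, h3⟩ := ih f' hlt hf'
      refine ⟨r ^ k * f1, b, by rw [hk, e, mul_assoc], ?_, h2, ?_⟩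
      · refine Nat.Coprime.mul_left ?_ h1
        apply Nat.Coprime.pow_left
        rw [Nat.Prime.coprime_iff_not_dvd hr]
        intro h4
        exact hrf' (e ▸ h4.mul_left _)
      · intro s hs hsd
        rcases (Nat.Prime.dvd_mul hs).1 hsd with h4 | h4
        · have h5 := hs.dvd_of_dvd_pow h4
          rw [(Nat.prime_dvd_prime_iff_eq hs hr).1 h5]
          exact hrN
        · exact h3 s hs h4

theorem pow_apply {T : Type*} [Group T] {p : ℕ} {Φ : MulAut T} {x : T} (h : Φ x = x ^ p) (j : ℕ) :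
    (Φ ^ j) x = x ^ p ^ j := by
  induction j with
  | zero => simp
  | succ j ih =>
    rw [pow_succ', MulAut.mul_apply, ih, map_pow, h, ← pow_mul, ← pow_succ']

theorem pow_eq_self_iff {T : Type*} [Group T] (x : T) {n : ℕ} (hn : 1 ≤ n) : x ^ n = x ↔ x ^ (n - 1) = 1 := by
  obtain ⟨m, rfl⟩ : ∃ m, n = m + 1 := ⟨n - 1, by omega⟩
  rw [pow_succ, Nat.add_sub_cancel]
  constructor
  · intro h; exact mul_eq_right.1 h
  · intro h; rw [h, one_mul]

theorem fd_abs {T : Type*} [Group T] [Finite T] {p f d : ℕ} (hp : p.Prime) (hf : 0 < f)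
    (hcard : Nat.card (MulAut T) = d * f * Nat.card T) (hd : ∀ r : ℕ, r.Prime → 7 ≤ r → ¬ r ∣ d)
    (Φ : MulAut T) (x : T) (hx : ∀ i : ℕ, x ^ i = 1 ↔ p ^ f - 1 ∣ 2 * i) (h : Φ x = x ^ p)
    (hN : ∀ r : ℕ, r.Prime → 7 ≤ r → r ∣ orderOf (Φ ^ f) → r ∣ Nat.card T) : FD p T := by
  have hp2 := hp.two_le
  have hpos : ∀ j : ℕ, 1 ≤ p ^ j := fun j => Nat.one_le_pow _ _ (by omega)
  have hfN : f ∣ orderOf Φ := by
    apply dvd_of_sub_one_dvd hp2
    rw [← hx, ← pow_eq_self_iff x (hpos _), ← pow_apply h, pow_orderOf_eq_one]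
    rfl
  have hNpos : 0 < orderOf Φ := orderOf_pos Φ
  obtain ⟨N', hN'⟩ := hfN
  have hN'pos : 0 < N' := by
    rcases Nat.eq_zero_or_pos N' with h0 | h0
    · rw [h0, mul_zero] at hN'; omega
    · exact h0
  have hN'' : orderOf (Φ ^ f) = N' := by
    rw [orderOf_pow' _ hf.ne', hN', Nat.gcd_mul_right_left, Nat.mul_div_cancel_left _ hf]
  obtain ⟨f1, b, e, hc1, hc2, hc3⟩ := exists_split N' f hf
  have hb : 0 < b := by
    rcases Nat.eq_zero_or_pos b with h0 | h0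
    · rw [h0, mul_zero] at e; omega
    · exact h0
  have hf1 : 0 < f1 := by
    rcases Nat.eq_zero_or_pos f1 with h0 | h0
    · rw [h0, zero_mul] at e; omega
    · exact h0
  have hco : Nat.Coprime b (f1 * N') := Nat.Coprime.mul_right hc1.symm hc2
  obtain ⟨j, hj1, hj2⟩ := Nat.chineseRemainder hco 1 0
  have hj2' : f1 * N' ∣ j := (Nat.modEq_zero_iff_dvd).1 hj2
  have hjb : Nat.gcd b j = 1 := by
    have h1 := hj1.gcd_eq
    rw [Nat.gcd_comm, h1, Nat.gcd_one_left]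
  -- the order of `Φ ^ j`
  have hord : orderOf (Φ ^ j) = b := by
    have h1 : orderOf Φ = b * (f1 * N') := by rw [hN', e]; ring
    rw [orderOf_pow, h1]
    have h2 : Nat.gcd (b * (f1 * N')) j = f1 * N' := by
      rw [Nat.gcd_comm, Nat.Coprime.gcd_mul _ hco, Nat.gcd_comm, hjb, one_mul]
      exact Nat.gcd_eq_right hj2'
    rw [h2]
    exact Nat.mul_div_cancel _ (by positivity)
  -- the element
  obtain ⟨m, hm⟩ : p ^ b - 1 ∣ p ^ f - 1 := by
    rw [e, mul_comm f1 b, pow_mul]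
    exact Nat.sub_one_dvd_pow_sub_one _ _
  have hy : ∀ i : ℕ, (x ^ m) ^ i = 1 ↔ p ^ b - 1 ∣ 2 * i := by
    intro i
    have hm0 : m ≠ 0 ∨ p ^ f - 1 = 0 := by
      by_contra hcon
      push Not at hcon
      apply hcon.2
      rw [hm, hcon.1, mul_zero]
    have h2f : 2 ≤ p ^ f := le_trans hp2 (Nat.le_self_pow hf.ne' p)
    have hm0' : 0 < m := by
      rcases hm0 with h1 | h1
      · omega
      · omega
    rw [← pow_mul, hx, hm, show 2 * (m * i) = (2 * i) * m by ring]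
    exact Nat.mul_dvd_mul_iff_right hm0'
  have hy1 : (x ^ m) ^ (p ^ b - 1) = 1 := (hy _).2 (Dvd.intro_left _ rfl)
  have hΦy : Φ (x ^ m) = (x ^ m) ^ p := by rw [map_pow, h, ← pow_mul, ← pow_mul, mul_comm]
  refine ⟨b, d * f1, Φ ^ j, x ^ m, ?_, ?_, hord, ?_, ?_, ?_⟩
  · rw [hcard, e]; ring
  · intro r hr hr7 hrd
    rcases (Nat.Prime.dvd_mul hr).1 hrd with h1 | h1
    · exact absurd h1 (hd r hr hr7)
    · apply hN r hr hr7
      rw [hN'']
      exact hc3 r hr h1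
  · rw [pow_apply hΦy]
    have h1 : (p ^ j : ℕ) ≡ p [MOD (p ^ b - 1)] := by
      have h2 : ((p : ZMod (p ^ b - 1))) ^ b = 1 := by
        have h3 : ((p ^ b - 1 + 1 : ℕ) : ZMod (p ^ b - 1)) = 1 := by
          rw [Nat.cast_add, ZMod.natCast_self, zero_add, Nat.cast_one]
        have h4 : p ^ b - 1 + 1 = p ^ b := Nat.sub_add_cancel (hpos b)
        rw [h4, Nat.cast_pow] at h3
        exact h3
      have h5 : ((p : ZMod (p ^ b - 1))) ^ j = (p : ZMod (p ^ b - 1)) ^ 1 := pow_eq_pow_of_modEq hj1 h2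
      rw [pow_one] at h5
      rw [← ZMod.natCast_eq_natCast_iff, Nat.cast_pow]
      exact h5
    have h2 : orderOf (x ^ m) ∣ p ^ b - 1 := orderOf_dvd_of_pow_eq_one hy1
    exact pow_eq_pow_iff_modEq.2 (h1.of_dvd h2)
  · intro hpd
    have h2 : p ∣ p ^ b - 1 := hpd.trans (orderOf_dvd_of_pow_eq_one hy1)
    have h3 : p ∣ p ^ b := dvd_pow_self p hb.ne'
    have h4 := Nat.dvd_sub h3 h2
    rw [Nat.sub_sub_self (hpos b)] at h4
    exact hp.one_lt.ne' (Nat.dvd_one.1 h4)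
  · intro s hs
    rw [pow_eq_self_iff _ (hpos s), hy] at hs
    exact dvd_of_sub_one_dvd hp2 hs

theorem FD.of_equiv {p : ℕ} {T T' : Type*} [Group T] [Group T'] (e : T ≃* T') (h : FD p T) : FD p T' := by
  obtain ⟨b, c, φ, x, h1, h2, h3, h4, h5, h6⟩ := h
  refine ⟨b, c, MulAut.congr e φ, e x, ?_, ?_, ?_, ?_, ?_, ?_⟩
  · rw [← Nat.card_congr (MulAut.congr e).toEquiv, h1, Nat.card_congr e.toEquiv]
  · intro r hr hr7 hrc
    rw [← Nat.card_congr e.toEquiv]
    exact h2 r hr hr7 hrc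
  · rw [← h3]
    exact orderOf_injective (MulAut.congr e).toMonoidHom (MulAut.congr e).injective φ
  · show e (φ (e.symm (e x))) = _
    rw [MulEquiv.symm_apply_apply, h4, map_pow]
  · have h7 : orderOf (e x) = orderOf x := orderOf_injective e.toMonoidHom e.injective x
    rw [h7]
    exact h5
  · intro s hs
    apply h6
    apply e.injective
    rw [map_pow, hs]

end Cfsg.Agent.H14.FdAbs
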