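import Cfsg.Agent.S0816
import Cfsg.Agent.S0817
import Cfsg.Agent.S0818
import Cfsg.Agent.H14.FdAbs

/-!
# Field data of the orthogonal groups (task PPD-FD2 of S5948)

`fd_odd`, `fd_plus`, `fd_minus`.
-/

set_option autoImplicit false
set_option linter.unusedSectionVars false

namespace Cfsg.Agent.H14.PpdFD2

open QuadraticMap Cfsg.Agent.LieClassical.OrthCore Cfsg.Agent.LieClassical.OrthTrans
  Cfsg.Agent.LieClassical.OrthSimple Cfsg.Agent.ClassicalGeometry.OrthSemi
  Cfsg.Agent.ClassicalGeometry.OrthSemiCount Cfsg.Agent.ClassicalGeometry.OrthSemiForms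
  Cfsg.Agent.LieClassical.OrthForms Cfsg.Agent.H14.FdAbs

section torus

variable {F V : Type*} [Field F] [AddCommGroup V] [Module F V] {Q : QuadraticForm F V}

/-- The torus of a hyperbolic pair: the map. -/
def torFun (Q : QuadraticForm F V) (x y : V) (θ : Fˣ) (v : V) : V :=
  v + (((θ : F) - 1) * polar Q y v) • x + (((θ : F)⁻¹ - 1) * polar Q x v) • y

theorem torFun_mul {x y : V} (h : Hyp Q x y) (θ η : Fˣ) (v : V) :
    torFun Q x y (θ * η) v = torFun Q x y θ (torFun Q x y η v) := by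
  simp only [torFun, polar_add_right, polar_smul_right, h.polar_left, h.polar_right, h.pair, h.pair', smul_eq_mul,
    mul_inv, Units.val_mul]
  module

theorem torFun_one (x y v : V) : torFun Q x y 1 v = v := by
  simp [torFun]

/-- The torus of a hyperbolic pair. -/
def tor {x y : V} (h : Hyp Q x y) : Fˣ →* (V ≃ₗ[F] V) where
  toFun θ :=
    { toFun := torFun Q x y θ
      invFun := torFun Q x y θ⁻¹
      map_add' := fun u v => by
        simp only [torFun, polar_add_right]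
        module
      map_smul' := fun a v => by
        simp only [torFun, polar_smul_right, smul_eq_mul, RingHom.id_apply]
        module
      left_inv := fun v => by
        rw [← torFun_mul h, inv_mul_cancel, torFun_one]
      right_inv := fun v => by
        rw [← torFun_mul h, mul_inv_cancel, torFun_one] }
  map_one' := by
    ext v
    exact torFun_one x y v
  map_mul' θ η := by
    ext v
    exact torFun_mul h θ η v

theorem tor_apply {x y : V} (h : Hyp Q x y) (θ : Fˣ) (v : V) :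
    tor h θ v = v + (((θ : F) - 1) * polar Q y v) • x + (((θ : F)⁻¹ - 1) * polar Q x v) • y := rfl

theorem tor_eq_refl {x y : V} (h : Hyp Q x y) (θ : Fˣ) (h1 : Q (x - y) ≠ 0) (h2 : Q (x - (θ : F) • y) ≠ 0) :
    tor h θ = refl Q (x - y) h1 * refl Q (x - (θ : F) • y) h2 := by
  have e1 : ∀ c : F, Q (x - c • y) = - c := by
    intro c
    rw [sub_eq_add_neg, Q_add, ← neg_smul, QuadraticMap.map_smul, h.left, h.right, polar_smul_right, h.pair]
    simp
  have e2 : Q (x - y) = -1 := by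
    have := e1 1
    rwa [one_smul] at this
  have hθ : (θ : F) ≠ 0 := θ.ne_zero
  ext v
  show _ = refl Q (x - y) h1 (refl Q (x - (θ : F) • y) h2 v)
  rw [tor_apply, refl_apply, refl_apply, e1, e2]
  simp only [polar_sub_right, polar_sub_left, polar_smul_right, polar_smul_left, h.polar_left, h.polar_right,
    h.pair, h.pair', smul_eq_mul]
  match_scalars
  · ring
  · field_simp
    ring
  · field_simp
    ring

theorem sq_mem_E (hG : Good Q) {x y : V} (h : Hyp Q x y) (θ : Fˣ) : tor h (θ ^ 2) ∈ E Q := by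
  have e1 : ∀ c : F, Q (x - c • y) = - c := by
    intro c
    rw [sub_eq_add_neg, Q_add, ← neg_smul, QuadraticMap.map_smul, h.left, h.right, polar_smul_right, h.pair]
    simp
  have e2 : Q (x - y) = -1 := by
    have := e1 1
    rwa [one_smul] at this
  have hθ : (θ : F) ≠ 0 := θ.ne_zero
  have h1 : Q (x - y) ≠ 0 := by rw [e2]; exact neg_ne_zero.2 one_ne_zero
  have h2 : Q (x - ((θ ^ 2 : Fˣ) : F) • y) ≠ 0 := by rw [e1]; exact neg_ne_zero.2 (Units.ne_zero _)
  have h3 : Q ((θ : F) • (x - y)) ≠ 0 := by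
    rw [QuadraticMap.map_smul, e2]
    simp
  rw [tor_eq_refl h (θ ^ 2) h1 h2, ← refl_smul h1 hθ h3]
  apply hG.refl_mul_refl_mem
  rw [e1, QuadraticMap.map_smul, e2, Units.val_pow_eq_pow_val]
  simp [pow_two]

/-- The torus of `E Q`. -/
def torE (hG : Good Q) {x y : V} (h : Hyp Q x y) : Fˣ →* ↥(E Q) where
  toFun θ := ⟨tor h (θ ^ 2), sq_mem_E hG h θ⟩
  map_one' := by
    apply Subtype.ext
    show tor h (1 ^ 2) = 1
    rw [one_pow, map_one]
  map_mul' a b := by
    apply Subtype.ext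
    show tor h ((a * b) ^ 2) = tor h (a ^ 2) * tor h (b ^ 2)
    rw [mul_pow, map_mul]

/-- `E Q` has trivial elements only among the central ones fixing a nonzero vector -/
theorem scalar_of_center (hG : Good Q) {g : ↥(E Q)} (hg : g ∈ Subgroup.center ↥(E Q)) :
    ∃ a : F, ∀ v, (g : V ≃ₗ[F] V) v = a • v := by
  let M : Gam Q := ⟨permO Q ⟨g, E_le_O g.2⟩, _, _, isSS_permO _⟩
  have h1 : conjE Q M = 1 := by
    ext k : 2
    show conjLin M k.1 = k.1
    ext v
    obtain ⟨v, rfl⟩ := M.1.surjective v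
    rw [conjLin_apply']
    show (g : V ≃ₗ[F] V) ((k : V ≃ₗ[F] V) v) = (k : V ≃ₗ[F] V) ((g : V ≃ₗ[F] V) v)
    have h2 := congrArg Subtype.val ((Subgroup.mem_center_iff.1 hg) k)
    exact (LinearEquiv.congr_fun h2 v).symm
  obtain ⟨a, -, ha⟩ := exists_scalar_of_conjE hG M h1
  exact ⟨a, ha⟩

theorem torE_mk_eq_one (hG : Good Q) {x y : V} (h : Hyp Q x y) (θ : Fˣ) :
    (QuotientGroup.mk (torE hG h θ) : ↥(E Q) ⧸ Subgroup.center ↥(E Q)) = 1 ↔ θ ^ 2 = 1 := by
  rw [QuotientGroup.eq_one_iff]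
  constructor
  · intro hc
    obtain ⟨a, ha⟩ := scalar_of_center hG hc
    obtain ⟨z, w, hzw, hxz, hxw, hyz, hyw⟩ := hG.exists_hyp2 h
    have h1 := ha z
    have h2 : (torE hG h θ : V ≃ₗ[F] V) z = z := by
      show tor h (θ ^ 2) z = z
      rw [tor_apply, hxz, hyz, mul_zero, mul_zero, zero_smul, zero_smul, add_zero, add_zero]
    rw [h2] at h1
    have h3 : (1 - a) • z = 0 := by rw [sub_smul, one_smul, ← h1, sub_self]
    have h4 : a = 1 := by
      rcases smul_eq_zero.1 h3 with h5 | h5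
      · exact (sub_eq_zero.1 h5).symm
      · exact absurd h5 hzw.left_ne
    have h5 := ha x
    have h6 : (torE hG h θ : V ≃ₗ[F] V) x = ((θ ^ 2 : Fˣ) : F) • x := by
      show tor h (θ ^ 2) x = _
      rw [tor_apply, h.pair', h.polar_left]
      module
    rw [h6, h4, one_smul] at h5
    have h7 : (((θ ^ 2 : Fˣ) : F) - 1) • x = 0 := by rw [sub_smul, h5, one_smul, sub_self]
    rcases smul_eq_zero.1 h7 with h8 | h8
    · exact Units.ext (sub_eq_zero.1 h8)
    · exact absurd h8 h.left_ne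
  · intro hθ
    have h1 : torE hG h θ = 1 := by
      apply Subtype.ext
      show tor h (θ ^ 2) = 1
      rw [hθ, map_one]
    rw [h1]
    exact Subgroup.one_mem _

/-- A semi-isometry fixing `x` and `y` acts on the torus. -/
theorem conjE_torE (hG : Good Q) {x y : V} (h : Hyp Q x y) {σ : F ≃+* F} (M : Gam Q)
    (hM : IsSS Q σ 1 M.1) (hx : M.1 x = x) (hy : M.1 y = y) (θ : Fˣ) :
    conjE Q M (torE hG h θ) = torE hG h (Units.map (σ : F →* F) θ) := by
  apply Subtype.ext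
  show conjLin M (tor h (θ ^ 2)) = tor h ((Units.map (σ : F →* F) θ) ^ 2)
  ext v
  obtain ⟨v, rfl⟩ := M.1.surjective v
  have e1 : polar Q y (M.1 v) = σ (polar Q y v) := by
    have := hM.polar y v
    rwa [hy, one_mul] at this
  have e2 : polar Q x (M.1 v) = σ (polar Q x v) := by
    have := hM.polar x v
    rwa [hx, one_mul] at this
  rw [conjLin_apply', tor_apply, tor_apply, hM.add, hM.add, hM.smul, hM.smul, hx, hy, e1, e2, ← map_pow,
    Units.coe_map]
  simp only [map_mul, map_sub, map_one, map_inv₀, MonoidHom.coe_coe]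

end torus

section main

variable {F V : Type*} [Field F] [AddCommGroup V] [Module F V] {Q : QuadraticForm F V}

/-- Normalising a semi-isometry on a hyperbolic pair. -/
theorem exists_fix (hG : Good Q) {σ : F ≃+* F} {M : Equiv.Perm V} (hM : IsSS Q σ 1 M) {x y : V} (h : Hyp Q x y) :
    ∃ M' : Equiv.Perm V, IsSS Q σ 1 M' ∧ M' x = x ∧ M' y = y := by
  have h1 : Hyp Q (M x) (M y) := by
    refine ⟨?_, ?_, ?_⟩
    · rw [hM.form, h.left, map_zero, mul_zero]
    · rw [hM.form, h.right, map_zero, mul_zero]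
    · rw [hM.polar, h.pair, map_one, mul_one]
  obtain ⟨g, hg, hgx, hgy⟩ := hG.trans_hyp h1 h
  refine ⟨permO Q ⟨g, E_le_O hg⟩ * M, ?_, hgx, hgy⟩
  have h2 := (isSS_permO (Q := Q) ⟨g, E_le_O hg⟩).mul hM
  have e1 : σ.trans (RingEquiv.refl F) = σ := by ext; rfl
  have e2 : (1 : F) * (RingEquiv.refl F) 1 = 1 := by rw [map_one, mul_one]
  rwa [e1, e2] at h2

theorem isSS_pow {σ : F ≃+* F} {M : Equiv.Perm V} (hM : IsSS Q σ 1 M) {p : ℕ} (hσ : ∀ a, σ a = a ^ p) (n : ℕ) :
    ∃ τ : F ≃+* F, (∀ a, τ a = a ^ p ^ n) ∧ IsSS Q τ 1 (M ^ n) := by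
  induction n with
  | zero =>
    refine ⟨RingEquiv.refl F, fun a => by simp, ?_⟩
    rw [pow_zero]
    refine ⟨one_ne_zero, fun _ _ => rfl, fun _ _ => rfl, fun v => ?_⟩
    rw [one_mul]; rfl
  | succ n ih =>
    obtain ⟨τ, hτ, h⟩ := ih
    refine ⟨τ.trans σ, fun a => ?_, ?_⟩
    · rw [RingEquiv.trans_apply, hσ, hτ, ← pow_mul, ← pow_succ]
    · have h1 := hM.mul h
      rwa [map_one, mul_one, ← pow_succ'] at h1

theorem fd_E [Finite V] [Finite F] (hG : Good Q) {p f d : ℕ} (hp : p.Prime) (hf : 0 < f)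
    (hF : Nat.card F = p ^ f) {σ : F ≃+* F} (hσ : ∀ a, σ a = a ^ p) {M : Equiv.Perm V} (hM : IsSS Q σ 1 M)
    (hcard : Nat.card (MulAut (↥(E Q) ⧸ Subgroup.center ↥(E Q))) =
      d * f * Nat.card (↥(E Q) ⧸ Subgroup.center ↥(E Q)))
    (hd : ∀ r : ℕ, r.Prime → 7 ≤ r → ¬ r ∣ d)
    (hO : ∀ r : ℕ, r.Prime → 7 ≤ r → r ∣ Nat.card (O Q) → r ∣ Nat.card (↥(E Q) ⧸ Subgroup.center ↥(E Q))) :
    FD p (↥(E Q) ⧸ Subgroup.center ↥(E Q)) := by
  obtain ⟨x, y, h⟩ := hG.exists_hyp
  obtain ⟨M', hM', hx, hy⟩ := exists_fix hG hM h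
  have : Finite (V ≃ₗ[F] V) := Finite.of_injective (fun g => (g : V → V)) (fun a b hab => by
    ext v; exact congrFun hab v)
  have hfinE : Finite ↥(E Q) := inferInstance
  have hfin : Finite (↥(E Q) ⧸ Subgroup.center ↥(E Q)) := inferInstance
  have : Fintype F := Fintype.ofFinite F
  obtain ⟨θ, hθ⟩ := IsCyclic.exists_generator (α := Fˣ)
  have hordθ : orderOf θ = p ^ f - 1 := by
    rw [orderOf_eq_card_of_forall_mem_zpowers hθ, Nat.card_units, hF]
  let M0 : Gam Q := ⟨M', _, _, hM'⟩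
  refine fd_abs hp hf hcard hd (Psi Q M0) (QuotientGroup.mk (torE hG h θ)) ?_ ?_ ?_
  · intro i
    rw [← QuotientGroup.mk_pow, ← map_pow, torE_mk_eq_one, ← pow_mul, ← orderOf_dvd_iff_pow_eq_one, hordθ,
      mul_comm]
  · rw [Psi_mk, conjE_torE hG h M0 hM' hx hy, ← QuotientGroup.mk_pow, ← map_pow]
    congr 2
    ext
    rw [Units.coe_map, Units.val_pow_eq_pow_val]
    exact hσ _
  · intro r hr hr7 hrd
    apply hO r hr hr7
    obtain ⟨τ, hτ, h1⟩ := isSS_pow hM' hσ f
    have h2 : τ = RingEquiv.refl F := by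
      ext a
      rw [hτ, RingEquiv.refl_apply, ← hF, Nat.card_eq_fintype_card]
      exact FiniteField.pow_card a
    rw [h2] at h1
    obtain ⟨g, hg⟩ := exists_permO h1
    have h3 : orderOf (Psi Q M0 ^ f) ∣ orderOf (M0 ^ f) := by
      rw [← map_pow]
      exact orderOf_map_dvd _ _
    have h4 : orderOf (M0 ^ f) = orderOf g := by
      rw [← orderOf_injective (permO Q) permO_injective g, hg, ← Subgroup.orderOf_coe]
      rfl
    have h5 : orderOf g ∣ Nat.card (O Q) := orderOf_dvd_natCard g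
    exact hrd.trans (h3.trans (h4 ▸ h5))

end main

section forms

theorem exists_frob {F : Type*} [Field F] [Finite F] {p f : ℕ} (hp : p.Prime) (hF : Nat.card F = p ^ f) :
    ∃ σ : F ≃+* F, ∀ a, σ a = a ^ p := by
  have : Fact p.Prime := ⟨hp⟩
  have : Fintype F := Fintype.ofFinite F
  have hchar : CharP F p := charP_of_card_eq_prime_pow (f := f) (by rw [← Nat.card_eq_fintype_card]; exact hF)
  exact ⟨frobeniusEquiv F p, fun a => frobeniusEquiv_def F p a⟩

variable {ι : Type} [Fintype ι] [DecidableEq ι] {F : Type} [Field F] [Finite F]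

theorem fd_form {Q : QuadraticForm F (ι → F)} (hG : Good Q) {p f d : ℕ} (hp : p.Prime) (hf : 0 < f)
    (hF : Nat.card F = p ^ f) (hM : ∀ σ : F ≃+* F, ∃ M : Equiv.Perm (ι → F), IsSS Q σ 1 M)
    (hcard : Nat.card (MulAut (Cfsg.POmega F ⇑Q)) = d * f * Nat.card (Cfsg.POmega F ⇑Q))
    (hd : ∀ r : ℕ, r.Prime → 7 ≤ r → ¬ r ∣ d)
    (hO : ∀ r : ℕ, r.Prime → 7 ≤ r → r ∣ Nat.card (Cfsg.isometryGroup F ⇑Q) →
      r ∣ Nat.card (Cfsg.POmega F ⇑Q)) : FD p (Cfsg.POmega F ⇑Q) := by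
  refine FD.of_equiv (pomegaEquiv hG).symm ?_
  obtain ⟨σ, hσ⟩ := exists_frob hp hF
  obtain ⟨M, hM⟩ := hM σ
  rw [← card_O] at hO
  rw [card_mulAut hG, Nat.card_congr (pomegaEquiv hG).toEquiv] at hcard
  rw [Nat.card_congr (pomegaEquiv hG).toEquiv] at hO
  exact fd_E hG hp hf hF hσ hM hcard hd hO

theorem not_dvd_of_smooth {r d : ℕ} (hr : r.Prime) (hr7 : 7 ≤ r) (hd : d ∣ 2 ^ 10 * 3 ^ 10) : ¬ r ∣ d := by
  intro h
  have h1 := h.trans hd
  rcases (Nat.Prime.dvd_mul hr).1 h1 with h2 | h2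
  · have := Nat.le_of_dvd (by norm_num) (hr.dvd_of_dvd_pow h2)
    omega
  · have := Nat.le_of_dvd (by norm_num) (hr.dvd_of_dvd_pow h2)
    omega

theorem four_aux {r k T : ℕ} (hr : r.Prime) (hr7 : 7 ≤ r) (h : r ∣ 2 * (Nat.gcd 4 k * T)) : r ∣ T := by
  rcases (Nat.Prime.dvd_mul hr).1 h with h1 | h1
  · exact absurd h1 (not_dvd_of_smooth hr hr7 (by norm_num))
  · rcases (Nat.Prime.dvd_mul hr).1 h1 with h2 | h2
    · exact absurd (h2.trans (Nat.gcd_dvd_left _ _)) (not_dvd_of_smooth hr hr7 (by norm_num))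
    · exact h2

variable {p f : ℕ}

/-- **Field data of `PΩ_{2 m + 1}(q)`.** -/
theorem fd_odd [Fact p.Prime] (hf : 1 ≤ f) (hF : Nat.card F = p ^ f) (hodd : Odd p) {m : ℕ} (hm : 3 ≤ m) :
    FD p (Cfsg.POmega F (Cfsg.quadFormOdd m F)) := by
  have : Fintype F := Fintype.ofFinite F
  have hF' : Fintype.card F = p ^ f := by rw [← Nat.card_eq_fintype_card]; exact hF
  have hq : Odd (p ^ f) := hodd.pow
  have h2 : (2 : F) ≠ 0 := Cfsg.Agent.LieClassical.PomegaCard.odd_card_iff.1 (by rw [hF']; exact hq)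
  rw [← coe_oddForm]
  refine fd_form (d := 2) (good_odd (by omega) h2) Fact.out (by omega) hF (odd_exists h2 m) ?_ ?_ ?_
  · rw [coe_oddForm]
    exact Cfsg.Agent.S0816.result p f hf hF' hodd m hm
  · intro r hr hr7
    exact not_dvd_of_smooth hr hr7 (by norm_num)
  · intro r hr hr7 h
    rw [coe_oddForm] at h ⊢
    rw [Cfsg.Agent.S0286.result hF' hq m] at h
    have h3 := Cfsg.Agent.S0292.result hF' hq m hm
    rw [mul_assoc, ← h3, ← mul_assoc] at h
    exact ((Nat.Prime.dvd_mul hr).1 h).resolve_left (not_dvd_of_smooth hr hr7 (by norm_num))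

/-- **Field data of `PΩ⁺_{2 m}(q)`.** -/
theorem fd_plus [Fact p.Prime] (hf : 1 ≤ f) (hF : Nat.card F = p ^ f) {m : ℕ} (hm : 4 ≤ m) :
    FD p (Cfsg.POmega F (Cfsg.quadFormPlus m F)) := by
  have : Fintype F := Fintype.ofFinite F
  have hF' : Fintype.card F = p ^ f := by rw [← Nat.card_eq_fintype_card]; exact hF
  rw [← coe_plusForm]
  refine fd_form (d := (if m = 4 then 3 else 1) * (if p = 2 then 2 else
    (if Even (m * (p ^ f - 1) / 2) then 8 else 4))) (good_plus (by omega)) Fact.out (by omega) hF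
    (fun σ => plus_exists m σ 1 one_ne_zero) ?_ ?_ ?_
  · rw [coe_plusForm]
    exact Cfsg.Agent.S0817.result p f hf hF' m hm
  · intro r hr hr7
    apply not_dvd_of_smooth hr hr7
    split_ifs <;> norm_num
  · intro r hr hr7 h
    rw [coe_plusForm] at h ⊢
    rw [Cfsg.Agent.S0287.result hF' m (by omega)] at h
    have h3 := Cfsg.Agent.S0293.result hF' m hm
    have h4 : 2 * (p ^ f) ^ (m * (m - 1)) * ((p ^ f) ^ m - 1) *
        ∏ i ∈ Finset.range (m - 1), ((p ^ f) ^ (2 * (i + 1)) - 1) =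
        2 * ((p ^ f) ^ (m * (m - 1)) * ((p ^ f) ^ m - 1) *
          ∏ i ∈ Finset.range (m - 1), ((p ^ f) ^ (2 * (i + 1)) - 1)) := by ring
    rw [h4, ← h3] at h
    exact four_aux hr hr7 h

/-- **Field data of `PΩ⁻_{2 m}(q)`.** -/
theorem fd_minus [Fact p.Prime] (hf : 1 ≤ f) (hF : Nat.card F = p ^ f) {m : ℕ} (hm : 4 ≤ m) {a b : F}
    (hab : ∀ z₁ z₂ : F, z₁ ^ 2 + a * z₁ * z₂ + b * z₂ ^ 2 = 0 → z₁ = 0 ∧ z₂ = 0) :
    FD p (Cfsg.POmega F (Cfsg.quadFormMinus (m - 1) F a b)) := by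
  have : Fintype F := Fintype.ofFinite F
  have hF' : Fintype.card F = p ^ f := by rw [← Nat.card_eq_fintype_card]; exact hF
  rw [← coe_minusForm]
  refine fd_form (d := if p = 2 then 2 else (if Even (m * (p ^ f - 1) / 2) then 4 else 8))
    (good_minus (by omega) a b hab) Fact.out (by omega) hF
    (fun σ => minus_exists (m - 1) a b hab σ 1 one_ne_zero) ?_ ?_ ?_
  · rw [coe_minusForm]
    exact Cfsg.Agent.S0818.result p f hf hF' m hm a b hab
  · intro r hr hr7
    apply not_dvd_of_smooth hr hr7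
    split_ifs <;> norm_num
  · intro r hr hr7 h
    rw [coe_minusForm] at h ⊢
    rw [Cfsg.Agent.S0288.result hF' m (by omega) a b hab] at h
    have h3 := Cfsg.Agent.S0294.result hF' m hm a b hab
    have h4 : 2 * (p ^ f) ^ (m * (m - 1)) * ((p ^ f) ^ m + 1) *
        ∏ i ∈ Finset.range (m - 1), ((p ^ f) ^ (2 * (i + 1)) - 1) =
        2 * ((p ^ f) ^ (m * (m - 1)) * ((p ^ f) ^ m + 1) *
          ∏ i ∈ Finset.range (m - 1), ((p ^ f) ^ (2 * (i + 1)) - 1)) := by ring
    rw [h4, ← h3] at h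
    exact four_aux hr hr7 h

end forms

end Cfsg.Agent.H14.PpdFD2
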