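import Mathlib
import Cfsg.Agent.H208.AAStruct
import Cfsg.Agent.H460.AARed
import Cfsg.Agent.Involutions.BaerSuzuki
import Cfsg.Agent.S0044

/-!
# S3833, S3834, S3840 from `Core` of the non-abelian simple groups (helper14)
-/

set_option autoImplicit false
set_option linter.unusedSectionVars false

namespace Cfsg.Agent.H14.AAFinal

open Cfsg Subgroup Cfsg.Agent.H459.Rad Cfsg.Agent.H460.AA
open scoped commutatorElement

universe u

/-- `Core` of all non-abelian simple groups -/
def AllCore : Prop :=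
  ∀ (K : Type u) [Group K] [Finite K] [IsSimpleGroup K], ¬ IsMulCommutative K → Core K

section two

variable {G : Type*} [Group G] [Finite G]

/-- two involutions with product of `2`-power order generate a `2`-group -/
theorem isPGroup_closure_pair {x y : G} (hx : x * x = 1) (hy : y * y = 1) {k : ℕ} (hk : (x * y) ^ 2 ^ k = 1) :
    IsPGroup 2 (closure ({x, y} : Set G)) := by
  have hx' : x⁻¹ = x := inv_eq_of_mul_eq_one_left hx
  have hy' : y⁻¹ = y := inv_eq_of_mul_eq_one_left hy
  have hr : IsPGroup 2 (zpowers (x * y)) := by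
    rw [IsPGroup.iff_orderOf]
    rintro ⟨_, n, rfl⟩
    refine ⟨?_, ?_⟩
    · exact (Nat.dvd_prime_pow Nat.prime_two).1 (orderOf_dvd_of_pow_eq_one (x := (⟨(x * y) ^ n, n, rfl⟩ :
        zpowers (x * y))) (n := 2 ^ k) (Subtype.ext (by
          change ((x * y) ^ n) ^ 2 ^ k = 1
          rw [← zpow_natCast, ← zpow_mul, mul_comm, zpow_mul, zpow_natCast, hk, one_zpow]))) |>.choose
    · exact ((Nat.dvd_prime_pow Nat.prime_two).1 (orderOf_dvd_of_pow_eq_one (x := (⟨(x * y) ^ n, n, rfl⟩ :
        zpowers (x * y))) (n := 2 ^ k) (Subtype.ext (by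
          change ((x * y) ^ n) ^ 2 ^ k = 1
          rw [← zpow_natCast, ← zpow_mul, mul_comm, zpow_mul, zpow_natCast, hk, one_zpow])))).choose_spec.2
  have hyz : IsPGroup 2 (zpowers y) := by
    have h1 : orderOf y ∣ 2 := orderOf_dvd_of_pow_eq_one (by rw [pow_two, hy])
    rcases (Nat.dvd_prime Nat.prime_two).1 h1 with h | h
    · exact IsPGroup.of_card (n := 0) (by rw [Nat.card_zpowers, h, pow_zero])
    · exact IsPGroup.of_card (n := 1) (by rw [Nat.card_zpowers, h, pow_one])
  have hinv : y * (x * y) * y⁻¹ = (x * y)⁻¹ := by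
    rw [mul_inv_rev, hx', hy', mul_assoc, mul_assoc, hy, mul_one]
  have hn : zpowers y ≤ normalizer (zpowers (x * y) : Set G) := by
    rw [zpowers_le, mem_normalizer_iff]
    have key : ∀ z, z ∈ zpowers (x * y) → y * z * y⁻¹ ∈ zpowers (x * y) := by
      rintro _ ⟨n, rfl⟩
      refine ⟨-n, ?_⟩
      change (x * y) ^ (-n) = y * (x * y) ^ n * y⁻¹
      rw [← conj_zpow, hinv, inv_zpow', ]
    intro z
    refine ⟨key z, fun h => ?_⟩
    have h1 := key _ h
    have h2 : y * (y * z * y⁻¹) * y⁻¹ = z := by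
      calc y * (y * z * y⁻¹) * y⁻¹ = (y * y) * z * (y * y)⁻¹ := by group
        _ = z := by rw [hy]; group
    rwa [h2] at h1
  have h3 := IsPGroup.to_sup_of_normal_right' hyz hr hn
  refine h3.to_le ?_
  rw [closure_le]
  rintro z hz
  rcases hz with rfl | hz
  · have h4 : z = (z * y) * y := by rw [mul_assoc, hy, mul_one]
    change z ∈ zpowers y ⊔ zpowers (z * y)
    rw [h4]
    exact mul_mem (mem_sup_right (by rw [← h4]; exact mem_zpowers _)) (mem_sup_left (mem_zpowers _))
  · rw [Set.mem_singleton_iff] at hz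
    rw [hz]
    exact mem_sup_left (mem_zpowers _)

/-- `p = 2`: the members of `A` lie in `O_2(G)` -/
theorem mem_pCore_two [hp : Fact (Nat.Prime 2)] {a : G} (ha : orderOf a = 2) (h : ∀ g : G, PE 2 (a * (g * a * g⁻¹))) :
    a ∈ pCore 2 G := by
  have ha2 : a * a = 1 := by rw [← pow_two, ← ha, pow_orderOf_eq_one]
  refine Involutions.BaerSuzuki.mem_pCore_of_conj_pairs a fun g => ?_
  obtain ⟨k, hk⟩ := h g
  refine isPGroup_closure_pair ha2 ?_ (k := k) (by rw [← hk, pow_orderOf_eq_one])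
  calc g * a * g⁻¹ * (g * a * g⁻¹) = g * (a * a) * g⁻¹ := by group
    _ = 1 := by rw [ha2]; group

end two


section solvable

variable {X : Type*} [Group X] [Finite X] {p : ℕ} [hp : Fact p.Prime]

/-- the hypotheses on the generating set -/
structure Hyp (p : ℕ) (A : Set X) : Prop where
  norm : ∀ g : X, ∀ c ∈ A, g * c * g⁻¹ ∈ A
  ord : ∀ a ∈ A, orderOf a = p
  sq : ∀ a ∈ A, ∀ b ∈ A, PE p (a * b)

theorem fitting_ne_bot_of [Nontrivial X] (h : commutator X ≤ fittingSubgroup X) : fittingSubgroup X ≠ ⊥ := by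
  intro hF
  rw [hF, le_bot_iff] at h
  have h1 : Group.IsNilpotent X := by
    have : IsMulCommutative X := by
      refine ⟨⟨fun a b => ?_⟩⟩
      have h2 : ⁅a, b⁆ ∈ commutator X := by
        rw [_root_.commutator_def]
        exact commutator_mem_commutator (mem_top _) (mem_top _)
      rw [h, mem_bot] at h2
      exact commutatorElement_eq_one_iff_mul_comm.1 h2
    let _ : CommGroup X := { mul_comm := fun a b => this.is_comm.comm a b }
    infer_instance
  rw [Lib.Cores.fittingSubgroup_eq_top_iff.2 h1] at hF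
  exact top_ne_bot hF

theorem PE.eq_one_of_mem {R : Subgroup X} (hR : (Nat.card R).Coprime p) {x : X} (h : PE p x) (hx : x ∈ R) :
    x = 1 := by
  refine h.eq_one fun hd => ?_
  have h2 : orderOf x ∣ Nat.card R := by
    have := orderOf_dvd_natCard (⟨x, hx⟩ : R)
    rwa [Subgroup.orderOf_mk] at this
  exact (Nat.Prime.coprime_iff_not_dvd hp.out).1 hR.symm (hd.trans h2)

/-- all products have order `p` -/
theorem orderOf_mul (hp2 : p ≠ 2) {A : Set X} (h : Hyp p A) (hsol : Group.IsSolvable X)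
    (hFc : (Nat.card (fittingSubgroup X)).Coprime p) (hq : ∀ q : X, q ^ p ∈ fittingSubgroup X) {a b : X} (ha : a ∈ A)
    (hb : b ∈ A) : orderOf (a * b) = p := by
  have hFn : (fittingSubgroup X).Normal := Lib.Cores.fittingSubgroup_normal
  have h1 : (a * b) ^ p = 1 := PE.eq_one_of_mem hFc ((h.sq a ha b hb).pow p) (hq _)
  have h2 : a * b ≠ 1 := by
    intro he
    have hbe : b = a⁻¹ := (inv_eq_of_mul_eq_one_right he).symm
    have hnot : ¬ p ∣ Nat.card (fittingSubgroup X) := (Nat.Prime.coprime_iff_not_dvd hp.out).1 hFc.symm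
    obtain ⟨N, hNF, hFN, haN, hN, -, -, -, -⟩ := H208.AAStruct.lemma1 hp2 (fittingSubgroup X) hnot
      (a := a) (by rw [normalizer_eq_top]; exact mem_top _) (h.ord a ha) (fun k _ => h.sq a ha _ (h.norm k a ha))
    have h3 : ∀ k ∈ fittingSubgroup X, k * a = a * k := by
      intro k hk
      have h4 : a⁻¹ * (k * a * k⁻¹) ∈ N := by
        change a⁻¹ * (k * a * k⁻¹) ∈ (N : Set X)
        rw [← hN]
        exact ⟨k, hk, rfl⟩
      have h5 : (k * a * k⁻¹) * a⁻¹ ∈ fittingSubgroup X := by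
        have h6 := hFn.conj_mem _ (hNF h4) a
        have e : a * (a⁻¹ * (k * a * k⁻¹)) * a⁻¹ = (k * a * k⁻¹) * a⁻¹ := by group
        rwa [e] at h6
      have h6 : PE p ((k * a * k⁻¹) * a⁻¹) := by
        rw [← hbe]; exact h.sq _ (h.norm k a ha) b hb
      have h7 := PE.eq_one_of_mem hFc h6 h5
      rw [mul_inv_eq_one, mul_inv_eq_iff_eq_mul] at h7
      exact h7
    have h4 : a ∈ fittingSubgroup X := by
      refine S0044.centralizer_fitting_le X hFn ?_
      rw [mem_centralizer_iff]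
      exact h3
    have h5 : a = 1 := PE.eq_one_of_mem hFc ⟨1, by rw [h.ord a ha, pow_one]⟩ h4
    have h6 := h.ord a ha
    rw [h5, orderOf_one] at h6
    exact hp.out.one_lt.ne h6
  have h3 : orderOf (a * b) ∣ p := orderOf_dvd_of_pow_eq_one h1
  rcases (Nat.dvd_prime hp.out).1 h3 with h4 | h4
  · exact absurd (orderOf_eq_one_iff.1 h4) h2
  · exact h4

end solvable

section general

variable {G : Type u} [Group G] [Finite G] {p : ℕ} [hp : Fact p.Prime]

theorem closure_solvable (hC : AllCore.{u}) {A : Set G} (h : Hyp p A) : Group.IsSolvable (closure A) := by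
  by_cases hp2 : p = 2
  · subst hp2
    have h1 : closure A ≤ pCore 2 G := by
      rw [closure_le]
      exact fun a ha => mem_pCore_two (h.ord a ha) fun g => h.sq a ha _ (h.norm g a ha)
    have h2 : IsPGroup 2 (closure A) := (Lib.Cores.pCore_isPGroup 2).to_le h1
    have := h2.isNilpotent
    infer_instance
  · have h1 : closure A ≤ solvableRadical G := by
      rw [closure_le]
      intro a ha
      exact reduction hp2 (fun K _ _ _ x hK hx hR hP => hC K hK p hp2 x hx hR hP) G a (h.ord a ha)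
        fun g => h.sq a ha _ (h.norm g a ha)
    have h2 : Group.IsSolvable (solvableRadical G) := rad_solvable G
    exact Group.isSolvable_of_isSolvable_injective (f := Subgroup.inclusion h1) (Subgroup.inclusion_injective h1)

theorem ne_two {A : Set G} (h : Hyp p A) (hne : A.Nonempty) (hcore : pCore p G = ⊥) : p ≠ 2 := by
  intro hp2
  subst hp2
  obtain ⟨a, ha⟩ := hne
  have h1 := mem_pCore_two (h.ord a ha) fun g => h.sq a ha _ (h.norm g a ha)
  rw [hcore, mem_bot] at h1
  have h2 := h.ord a ha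
  rw [h1, orderOf_one] at h2
  exact absurd h2 (by norm_num)

/-- the set inside the group it generates -/
theorem hyp_sub {A : Set G} (h : Hyp p A) : Hyp p {x : closure A | (x : G) ∈ A} where
  norm g c hc := h.norm (g : G) c hc
  ord a ha := by rw [← Subgroup.orderOf_coe]; exact h.ord _ ha
  sq a ha b hb := PE.coe.1 (h.sq _ ha _ hb)

theorem closure_sub (A : Set G) : closure {x : closure A | (x : G) ∈ A} = ⊤ := closure_closure_coe_preimage

theorem pCore_sub {A : Set G} (h : Hyp p A) (hcore : pCore p G = ⊥) : pCore p (closure A) = ⊥ := by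
  have hn : (closure A).Normal := by
    refine ⟨fun x hx g => ?_⟩
    have h1 : (closure A).map (MulAut.conj g).toMonoidHom ≤ closure A := by
      rw [MonoidHom.map_closure, closure_le]
      rintro _ ⟨a, ha, rfl⟩
      exact subset_closure (h.norm g a ha)
    exact h1 ⟨x, hx, rfl⟩
  have h1 := Lib.Cores.map_subtype_pCore p hn
  rw [hcore, inf_bot_eq, Subgroup.map_eq_bot_iff_of_injective _ (closure A).subtype_injective] at h1
  exact h1

theorem structure_sub (hC : AllCore.{u}) {A : Set G} (h : Hyp p A) (hne : A.Nonempty) (hcore : pCore p G = ⊥) :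
    (Nat.card (fittingSubgroup (closure A))).Coprime p ∧
      commutator (closure A) ≤ fittingSubgroup (closure A) ∧ ∀ q : closure A, q ^ p ∈ fittingSubgroup (closure A) := by
  have h1 := hyp_sub h
  exact H208.AAStruct.structure_theorem (ne_two h hne hcore) _ h1.norm h1.ord h1.sq (closure_sub A)
    (closure_solvable hC h) (pCore_sub h hcore)

/-- **S3833** -/
theorem s3833_of (hC : AllCore.{u}) (A : Set G) (hAne : A.Nonempty) (hA : (∀ g : G, ∀ c ∈ A, g * c * g⁻¹ ∈ A))
    (hord : ∀ a ∈ A, orderOf a = p) (hsq : ∀ a ∈ A, ∀ b ∈ A, (∃ k : ℕ, orderOf (a * b) = p ^ k)) :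
    Group.IsSolvable ↥(Subgroup.closure A) ∧ (Cfsg.pCore p G = ⊥ → p ≠ 2 ∧
      Cfsg.fittingSubgroup ↥(Subgroup.closure A) ≠ ⊥ ∧
      (Nat.card ↥(Cfsg.fittingSubgroup ↥(Subgroup.closure A))).Coprime p ∧
      commutator ↥(Subgroup.closure A) ≤ Cfsg.fittingSubgroup ↥(Subgroup.closure A) ∧
      ∀ q : ↥(Subgroup.closure A), q ^ p ∈ Cfsg.fittingSubgroup ↥(Subgroup.closure A)) := by
  have h : Hyp p A := ⟨hA, hord, hsq⟩
  refine ⟨closure_solvable hC h, fun hcore => ⟨ne_two h hAne hcore, ?_, structure_sub hC h hAne hcore⟩⟩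
  have : Nontrivial (closure A) := by
    obtain ⟨a, ha⟩ := hAne
    refine ⟨⟨⟨a, subset_closure ha⟩, 1, fun he => ?_⟩⟩
    have h1 : a = 1 := congrArg Subtype.val he
    have h2 := hord a ha
    rw [h1, orderOf_one] at h2
    exact hp.out.one_lt.ne h2
  exact fitting_ne_bot_of (structure_sub hC h hAne hcore).2.1

/-- **S3840** -/
theorem s3840_of (hC : AllCore.{u}) (A : Set G) (hAne : A.Nonempty) (hA : ∀ g : G, ∀ c ∈ A, g * c * g⁻¹ ∈ A)
    (hord : ∀ a ∈ A, orderOf a = p) (hsq : ∀ a ∈ A, ∀ b ∈ A, ∃ k : ℕ, orderOf (a * b) = p ^ k)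
    (hcore : Cfsg.pCore p G = ⊥) : p ≠ 2 ∧ ∀ a ∈ A, ∀ b ∈ A, orderOf (a * b) = p := by
  have h : Hyp p A := ⟨hA, hord, hsq⟩
  refine ⟨ne_two h hAne hcore, fun a ha b hb => ?_⟩
  obtain ⟨h1, -, h3⟩ := structure_sub hC h hAne hcore
  have h4 := orderOf_mul (ne_two h hAne hcore) (hyp_sub h) (closure_solvable hC h) h1 h3
    (a := ⟨a, subset_closure ha⟩) (b := ⟨b, subset_closure hb⟩) ha hb
  rw [← h4, ← Subgroup.orderOf_coe]
  rfl

/-- **S3834** -/
theorem s3834_of (hC : AllCore.{u}) (a : G) (ha : orderOf a = p)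
    (hgen : Subgroup.closure {x : G | ∃ g : G, x = g * a * g⁻¹} = ⊤)
    (hsq : ∀ g h : G, (∃ k : ℕ, orderOf ((g * a * g⁻¹) * (h * a * h⁻¹)) = p ^ k)) (hcore : Cfsg.pCore p G = ⊥) :
    p ≠ 2 ∧ Cfsg.IsFrobeniusComplement (Subgroup.zpowers a) ∧
      ∀ g h : G, orderOf ((g * a * g⁻¹) * (h * a * h⁻¹)) = p := by
  set A : Set G := {x : G | ∃ g : G, x = g * a * g⁻¹} with hAdef
  have h : Hyp p A := by
    refine ⟨?_, ?_, ?_⟩
    · rintro g _ ⟨k, rfl⟩
      exact ⟨g * k, by group⟩
    · rintro _ ⟨k, rfl⟩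
      rw [← ha]
      exact orderOf_injective (MulAut.conj k).toMonoidHom (MulAut.conj k).injective a
    · rintro _ ⟨k, rfl⟩ _ ⟨l, rfl⟩
      exact hsq k l
  have haA : a ∈ A := ⟨1, by group⟩
  have hne : A.Nonempty := ⟨a, haA⟩
  have hp2 := ne_two h hne hcore
  have hsol : Group.IsSolvable G := by
    have h1 := closure_solvable hC h
    rw [hgen] at h1
    exact Group.isSolvable_of_isSolvable_injective (f := (Subgroup.topEquiv (G := G)).symm.toMonoidHom)
      (Subgroup.topEquiv (G := G)).symm.injective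
  obtain ⟨hFc, hcomm, hq⟩ := H208.AAStruct.structure_theorem hp2 A h.norm h.ord h.sq hgen hsol hcore
  have hFn : (fittingSubgroup G).Normal := Lib.Cores.fittingSubgroup_normal
  set F := fittingSubgroup G with hF
  have hnot : ¬ p ∣ Nat.card F := (Nat.Prime.coprime_iff_not_dvd hp.out).1 hFc.symm
  have hzF : ∀ x ∈ zpowers a, x ∈ F → x = 1 := by
    rintro _ ⟨n, rfl⟩ hx
    refine PE.eq_one_of_mem hFc (PE.of_orderOf ?_) hx
    change orderOf (a ^ n) ∣ p
    rw [← ha]
    exact orderOf_dvd_of_mem_zpowers ⟨n, rfl⟩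
  -- conjugates of `a` are congruent to `a` modulo `F`
  have hcong : ∀ g : G, a⁻¹ * (g * a * g⁻¹) ∈ F := by
    intro g
    have h1 : ⁅a⁻¹, g⁆ ∈ commutator G := by
      rw [_root_.commutator_def]
      exact commutator_mem_commutator (mem_top _) (mem_top _)
    have h2 : ⁅a⁻¹, g⁆ = a⁻¹ * (g * a * g⁻¹) := by rw [commutatorElement_def]; group
    rw [← h2]; exact hcomm h1
  have hsup : F ⊔ zpowers a = ⊤ := by
    rw [eq_top_iff, ← hgen, closure_le]
    rintro _ ⟨g, rfl⟩
    have h1 : g * a * g⁻¹ = a * (a⁻¹ * (g * a * g⁻¹)) := by group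
    rw [h1]
    exact mul_mem (mem_sup_right (mem_zpowers a)) (mem_sup_left (hcong g))
  have hdec : ∀ g : G, ∃ f ∈ F, ∃ z ∈ zpowers a, f * z = g := by
    intro g
    have h1 : g ∈ F ⊔ zpowers a := by rw [hsup]; exact mem_top g
    exact Subgroup.mem_sup_of_normal_left.1 h1
  obtain ⟨N, hNF, hFN, haN, hN, hfix, -, -, -⟩ := H208.AAStruct.lemma1 hp2 F hnot
      (a := a) (by rw [normalizer_eq_top]; exact mem_top _) ha (fun k _ => h.sq a haA _ (h.norm k a haA))
  have hNn : N.Normal := by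
    rw [← normalizer_eq_top_iff, eq_top_iff, ← hsup]
    exact sup_le hFN (by rw [zpowers_le]; exact haN)
  have hza : ∀ z ∈ zpowers a, z * a * z⁻¹ = a := by
    rintro _ ⟨n, rfl⟩
    change a ^ n * a * (a ^ n)⁻¹ = a
    group
  -- `F ≤ N`
  have hFleN : F ≤ N := by
    have h2 : (⊤ : Subgroup G) ≤ N ⊔ zpowers a := by
      rw [← hgen, closure_le]
      rintro _ ⟨g, rfl⟩
      obtain ⟨f, hf, z, hz, rfl⟩ := hdec g
      have h4 : f * z * a * (f * z)⁻¹ = a * (a⁻¹ * (f * a * f⁻¹)) := by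
        calc f * z * a * (f * z)⁻¹ = f * (z * a * z⁻¹) * f⁻¹ := by group
          _ = a * (a⁻¹ * (f * a * f⁻¹)) := by rw [hza z hz]; group
      rw [h4]
      refine mul_mem (mem_sup_right (mem_zpowers a)) (mem_sup_left ?_)
      change a⁻¹ * (f * a * f⁻¹) ∈ (N : Set G)
      rw [← hN]
      exact ⟨f, hf, rfl⟩
    intro f hf
    obtain ⟨n, hn, z, hz, he⟩ := Subgroup.mem_sup_of_normal_left.1 (h2 (mem_top f))
    have h3 : z ∈ F := by
      have h4 : z = n⁻¹ * f := by rw [← he]; group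
      rw [h4]
      exact mul_mem (inv_mem (hNF hn)) hf
    rw [← he, hzF z hz h3, mul_one]
    exact hn
  have hfixF : ∀ f ∈ F, a * f = f * a → f = 1 := fun f hf => hfix f (hFleN hf)
  refine ⟨hp2, ⟨?_, ?_, ?_⟩, fun g k => ?_⟩
  · intro h0
    rw [zpowers_eq_bot] at h0
    rw [h0, orderOf_one] at ha
    exact hp.out.one_lt.ne ha
  · intro h0
    have h1 : IsPGroup p G := by
      refine IsPGroup.of_card (n := 1) ?_
      rw [pow_one, ← ha, ← Nat.card_zpowers, h0, Subgroup.card_top]
    rw [(Lib.Cores.pCore_eq_top_iff p).2 h1] at hcore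
    have h2 : a ∈ (⊤ : Subgroup G) := mem_top a
    rw [hcore, mem_bot] at h2
    rw [h2, orderOf_one] at ha
    exact hp.out.one_lt.ne ha
  · intro g hg
    rw [eq_bot_iff]
    rintro x ⟨hx1, hx2⟩
    rw [mem_bot]
    by_contra hx
    apply hg
    obtain ⟨f, hf, z, hz, rfl⟩ := hdec g
    have h1 : ∃ y ∈ zpowers a, x = f * z * y * (f * z)⁻¹ := by
      obtain ⟨y, hy, e⟩ := hx2
      exact ⟨y, hy, e.symm⟩
    obtain ⟨y, hy, e⟩ := h1
    have h2 : z * y * z⁻¹ = y := by
      obtain ⟨m, rfl⟩ := hz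
      obtain ⟨n, rfl⟩ := hy
      change a ^ m * a ^ n * (a ^ m)⁻¹ = a ^ n
      rw [← zpow_add, add_comm, zpow_add, mul_inv_cancel_right]
    have h3 : x = f * y * f⁻¹ := by
      rw [e]
      calc f * z * y * (f * z)⁻¹ = f * (z * y * z⁻¹) * f⁻¹ := by group
        _ = f * y * f⁻¹ := by rw [h2]
    have h4 : x * y⁻¹ ∈ F := by
      have h5 : x * y⁻¹ = f * (y * f⁻¹ * y⁻¹) := by rw [h3]; group
      rw [h5]
      exact mul_mem hf (hFn.conj_mem _ (inv_mem hf) y)
    have h5 : x * y⁻¹ = 1 := hzF _ (mul_mem hx1 (inv_mem hy)) h4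
    have h6 : x = y := mul_inv_eq_one.1 h5
    rw [← h6] at h3
    -- `f` commutes with `x`, a generator of `⟨a⟩`
    have h7 : a ∈ zpowers x := by
      have h8 : zpowers x ≤ zpowers a := by rw [zpowers_le]; exact hx1
      have h9 : orderOf x = p := by
        have h10 : orderOf x ∣ p := by rw [← ha]; exact orderOf_dvd_of_mem_zpowers hx1
        rcases (Nat.dvd_prime hp.out).1 h10 with h11 | h11
        · exact absurd (orderOf_eq_one_iff.1 h11) hx
        · exact h11
      have h10 : zpowers x = zpowers a := by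
        refine Subgroup.eq_of_le_of_card_ge h8 ?_
        rw [Nat.card_zpowers, Nat.card_zpowers, h9, ha]
      rw [h10]; exact mem_zpowers a
    have h8 : a * f = f * a := by
      obtain ⟨n, hn⟩ := h7
      have h9 : Commute f x := by
        have h10 : x * f = f * x := by
          calc x * f = (f * x * f⁻¹) * f := by rw [← h3]
            _ = f * x := by group
        exact h10.symm
      have h10 := (h9.zpow_right n).eq
      change x ^ n = a at hn
      rw [hn] at h10
      exact h10.symm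
    rw [hfixF f hf h8, one_mul]
    exact hz
  · exact orderOf_mul hp2 h hsol hFc hq ⟨g, rfl⟩ ⟨k, rfl⟩

end general

end Cfsg.Agent.H14.AAFinal
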