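import Cfsg.Prelude.Def_Classification2
import Cfsg.Agent.UGT.End.MEleven
import Cfsg.Agent.Schreier.MTwelve
import Cfsg.Agent.SporadicA.MathieuRecog
import Cfsg.Agent.Omega.TwoF.MathieuRK
import Cfsg.Agent.S0365
import Cfsg.Agent.SporadicB.J1.Main
import Cfsg.Agent.S1620
import Cfsg.Agent.S1625
import Cfsg.Agent.S1703
import Cfsg.Agent.S0399
import Cfsg.Agent.H49.CoStab
import Cfsg.Agent.Schreier.McLaughlin
import Cfsg.Agent.HN.AutHS
import Cfsg.Agent.S1694
import Cfsg.Agent.S1695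
import Cfsg.Agent.S1627
import Cfsg.Agent.S1699
import Cfsg.Agent.S1702
import Cfsg.Agent.S1696
import Cfsg.Agent.S1697
import Cfsg.Agent.S1698
import Cfsg.Agent.S1701
import Cfsg.Agent.S1700
import Cfsg.Agent.S1704
import Cfsg.Agent.S1705
import Cfsg.Agent.S1162
import Cfsg.Agent.S1070
import Cfsg.Agent.S1071
import Cfsg.Agent.S1072
import Cfsg.Agent.S1073
import Cfsg.Agent.S1074
import Cfsg.Agent.S0249
import Cfsg.Agent.S0270
import Cfsg.Agent.S0283
import Cfsg.Agent.S0295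
import Cfsg.Agent.S0296
import Cfsg.Agent.S0297
import Cfsg.Agent.S1054
import Cfsg.Agent.S1055

/-!
# The groups on the list of the known simple groups are simple

`isSimpleGroup : IsKnownSimple' G → IsSimpleGroup G`.
-/

set_option autoImplicit false

namespace Cfsg.Agent.H14.KnownSimple

open Cfsg

variable {G : Type*} [Group G]

theorem of_equiv {K : Type*} [Group K] (h : IsSimpleGroup K) (e : G ≃* K) : IsSimpleGroup G :=
  (MulEquiv.isSimpleGroup_congr e).2 h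

theorem cyclic (h : IsPrimeCyclic G) : IsSimpleGroup G := by
  have h1 : Fact (Nat.card G).Prime := ⟨h⟩
  exact isSimpleGroup_of_prime_card (p := Nat.card G) rfl

theorem alt (h : IsAlternating G) : IsSimpleGroup G := by
  obtain ⟨n, hn, ⟨e⟩⟩ := h
  exact of_equiv (alternatingGroup.isSimpleGroup (by rw [Nat.card_fin]; exact hn)) e

theorem psl (h : IsPSL G) : IsSimpleGroup G := by
  obtain ⟨F, _, _, n, hn, h2, ⟨e⟩⟩ := h
  rcases Nat.lt_or_ge n 3 with h3 | h3
  · obtain rfl : n = 2 := by omega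
    exact of_equiv (Matrix.ProjectiveSpecialLinearGroup.rank_two_simple (by
      rw [Nat.card_eq_fintype_card]; exact h2 rfl)) e
  · exact of_equiv (S0249.result n h3) e

theorem psp (h : IsPSp G) : IsSimpleGroup G := by
  obtain ⟨F, _, _, m, hm, h2, ⟨e⟩⟩ := h
  exact of_equiv (S0270.result m hm h2) e

theorem psu (h : IsPSU G) : IsSimpleGroup G := by
  obtain ⟨F, _, _, n, q, hq, hn, h2, ⟨e⟩⟩ := h
  exact of_equiv (S0283.result hq n hn h2) e

theorem omegaOdd (h : IsPOmegaOdd G) : IsSimpleGroup G := by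
  obtain ⟨F, _, _, m, hm, h2, ⟨e⟩⟩ := h
  exact of_equiv (S0295.result h2 m hm) e

theorem omegaPlus (h : IsPOmegaPlus G) : IsSimpleGroup G := by
  obtain ⟨F, _, _, m, hm, ⟨e⟩⟩ := h
  exact of_equiv (S0296.result m hm) e

theorem omegaMinus (h : IsPOmegaMinus G) : IsSimpleGroup G := by
  obtain ⟨F, _, _, m, a, b, hm, hab, ⟨e⟩⟩ := h
  exact of_equiv (S0297.result m hm a b hab) e

theorem chev {D : Lie.ChevalleyDatum}
    (hD : D ∈ [Cfsg.Lie.chevD4, Cfsg.Lie.chevF4, Cfsg.Lie.chevE6, Cfsg.Lie.chevE7, Cfsg.Lie.chevE8])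
    (h : D.IsGroupOver G) : IsSimpleGroup G := by
  obtain ⟨F, _, _, ⟨e⟩⟩ := h
  exact of_equiv (S1054.result D hD).1 e

theorem exceptional (h : IsExceptionalLieType G) : IsSimpleGroup G := by
  rcases h with h | h | h | h | h | h | h | h | h | h | h
  · obtain ⟨F, _, _, hF, ⟨e⟩⟩ := h
    refine of_equiv (S1055.result ?_).1 e
    classical
    by_contra hcon
    push Not at hcon
    have h1 : Finset.univ ⊆ ({0, 1} : Finset F) := by
      intro a _
      rw [Finset.mem_insert, Finset.mem_singleton]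
      by_cases h2 : a = 0
      · exact Or.inl h2
      · exact Or.inr (hcon a h2)
    have h2 := Finset.card_le_card h1
    have h3 := Finset.card_le_two (a := (0 : F)) (b := 1)
    rw [Finset.card_univ] at h2
    omega
  · exact chev (by simp) h
  · exact chev (by simp) h
  · exact chev (by simp) h
  · exact chev (by simp) h
  · obtain ⟨K, _, _, q, hq, hK, ⟨e⟩⟩ := h
    exact of_equiv (S1070.result hq hK).1 e
  · obtain ⟨K, _, _, q, hq, hK, ⟨e⟩⟩ := h
    exact of_equiv (S1071.result hq hK).1 e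
  · obtain ⟨K, _, _, m, hm, hK, ⟨e⟩⟩ := h
    exact of_equiv (S1162.result hm hK) e
  · obtain ⟨K, _, _, m, hm, hK, ⟨e⟩⟩ := h
    exact of_equiv (S1073.result hm hK).1 e
  · obtain ⟨K, _, _, m, hm, hK, ⟨e⟩⟩ := h
    exact of_equiv (S1072.result hm hK).1 e
  · obtain ⟨e⟩ := h
    exact of_equiv S1074.result.2.1 e

theorem simple_HS : IsSimpleGroup Cfsg.Spor.HS := by
  obtain ⟨⟨e⟩, h⟩ := HN.AutHS.nonempty_Q
  have : Nontrivial Cfsg.Spor.HS := e.toEquiv.symm.nontrivial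
  exact IsSimpleGroup.isSimpleGroup_of_surjective e.toMonoidHom e.surjective

theorem sporadic (h : IsSporadicGroup G) : IsSimpleGroup G := by
  rcases h with h | ⟨⟨e⟩⟩ | ⟨⟨e⟩⟩ | ⟨⟨e⟩⟩ | ⟨⟨e⟩⟩ | ⟨⟨e⟩⟩ | ⟨⟨e⟩⟩ | ⟨F, _, _, ω, hF, hω, ⟨e⟩⟩ | ⟨⟨e⟩⟩ | ⟨⟨e⟩⟩ | ⟨⟨e⟩⟩ |
    ⟨⟨e⟩⟩ | ⟨⟨e⟩⟩ | ⟨⟨e⟩⟩ | ⟨⟨e⟩⟩ | ⟨⟨e⟩⟩ | ⟨⟨e⟩⟩ | ⟨⟨e⟩⟩ | ⟨⟨e⟩⟩ | ⟨⟨e⟩⟩ | ⟨⟨e⟩⟩ | ⟨⟨e⟩⟩ | ⟨⟨e⟩⟩ | ⟨⟨e⟩⟩ | ⟨⟨e⟩⟩ | ⟨⟨e⟩⟩
  · exact (UGT.End.MEleven.isM11 h).1
  · exact of_equiv Schreier.MTwelve.isSimpleGroup e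
  · exact of_equiv SporadicA.MathieuRecog.simple_M22 e
  · exact of_equiv Omega.TwoF.simple_M23 e
  · exact of_equiv S0365.result e
  · exact of_equiv SporadicB.J1.Main.isJ1.1 e
  · exact of_equiv S1620.result.1 e
  · exact of_equiv (S1625.result F hF ω hω).2.2.2 e
  · exact of_equiv S1703.result.1 e
  · exact of_equiv S0399.result.1 e
  · exact of_equiv H49.CoStab.simple_co2 e
  · exact of_equiv H49.CoStab.simple_co3 e
  · exact of_equiv Schreier.McLaughlin.isSimple_mcl e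
  · exact of_equiv simple_HS e
  · exact of_equiv S1694.result.1 e
  · exact of_equiv S1695.result.1 e
  · exact of_equiv S1627.result.2.2 e
  · exact of_equiv S1699.result.1 e
  · exact of_equiv S1702.result.1 e
  · exact of_equiv S1696.result.1 e
  · exact of_equiv S1697.result.1 e
  · exact of_equiv S1698.result.1 e
  · exact of_equiv S1701.result.1 e
  · exact of_equiv S1700.result.1 e
  · exact of_equiv S1704.result.1 e
  · exact of_equiv S1705.result.1 e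

/-- **The known simple groups are simple.** -/
theorem isSimpleGroup (h : IsKnownSimple' G) : IsSimpleGroup G := by
  rcases h with h | h | h | h | h | h | h | h | h | h
  · exact cyclic h
  · exact alt h
  · exact psl h
  · exact psp h
  · exact psu h
  · exact omegaOdd h
  · exact omegaPlus h
  · exact omegaMinus h
  · exact exceptional h
  · exact sporadic h

end Cfsg.Agent.H14.KnownSimple
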