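import Cfsg.Agent.H554.BS.RegOm
import Cfsg.Agent.H167.EX.ChkE6

/-!
# The toral `q`-group of the fixed `D₄` of `E₆` is regular (S4312 row (f), piece (B))

* `L6 = LE6` : a basis of the `D₄` of roots of `E₆` fixed by the graph automorphism;
* `OmL hp k L q` : the group generated by the `h_s(c)`, `s ∈ L`, `c ^ q = 1`; `Om6 hp k q = OmL hp k L6 q`;
* `omOK_E6` : `OmOK hp hk p q (Om6 hp k q)` for every prime `q ≥ 5`, `q ≠ p`.
-/

set_option autoImplicit false
set_option linter.unusedSectionVars false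

namespace Cfsg.Agent.H14.BSE6

open CoxeterSystem Cfsg Cfsg.Lie Cfsg.Lie.ChevalleyDatum
open Cfsg.Agent.ChevalleyStructure Cfsg.Agent.ChevalleyStructure.Elts Cfsg.Agent.ChevalleyStructure.CoxeterGeom
  Cfsg.Agent.ChevalleyStructure.CoxeterGeomTypes Cfsg.Agent.ChevalleyStructure.NPerm
open Cfsg.Agent.Tits.Roots Cfsg.Agent.Tits.Core Cfsg.Agent.Nodes Cfsg.Agent.Nodes.Reps Cfsg.Agent.Nodes.BNOf
  Cfsg.Agent.Nodes.RGDChev Cfsg.Agent.Nodes.Bruhat Cfsg.Agent.Nodes.NormalForm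
open Cfsg.Agent.KFacts.RgdField Cfsg.Agent.KFacts.RgdChevCoord
open Cfsg.Agent.BpExc Cfsg.Agent.BpExc.TorCent Cfsg.Agent.BpExc.TorChev Cfsg.Agent.BpExc.Tow
  Cfsg.Agent.BpExc.TowChev Cfsg.Agent.BpExc.Fr Cfsg.Agent.BpExc.Pair Cfsg.Agent.BpExc.LangFr Cfsg.Agent.GpExc.Field
  Cfsg.Agent.BpExc.TorAll
open Cfsg.Agent.H469.Exc Cfsg.Agent.H469.Exc.SigFr
open Cfsg.Agent.Nodes.RGDFoldSL
open Cfsg.Agent.ChevalleyStructure.SL2Hom (up lo mem_closure_SL2)
open Cfsg.Agent.H167.EX Cfsg.Agent.H795.LangT Cfsg.Agent.H129.TorusChar Cfsg.Agent.H554.BS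
open HMatDiagAll (expo)
open scoped commutatorElement Pointwise

universe u v

/-! ### the torsion of the torus -/

section General

variable {D : ChevalleyDatum} {l : ℕ} {M : CoxeterMatrix (Fin l)} (hp : IsType D l M) {k : Type u} [Field k]

/-- the group generated by the `h_s(c)`, `s ∈ L`, `c ^ q = 1` -/
def OmL (hp : IsType D l M) (k : Type u) [Field k] (L : List ℕ) (q : ℕ) : Subgroup ↥(D.group k) :=
  Subgroup.closure {g | ∃ (s : ℕ) (hs : s < D.nroots) (c : k), s ∈ L ∧ c ^ q = 1 ∧ g = ph hp k hs (hS c)}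

variable {hp} {L : List ℕ} {q : ℕ}

theorem mem_OmL {s : ℕ} (hs : s < D.nroots) (hL : s ∈ L) {c : k} (hc : c ^ q = 1) :
    ph hp k hs (hS c) ∈ OmL hp k L q := Subgroup.subset_closure ⟨s, hs, c, hL, hc, rfl⟩

theorem ne_zero_of_pow {c : k} (hq : q ≠ 0) (hc : c ^ q = 1) : c ≠ 0 := by
  rintro rfl
  rw [zero_pow hq] at hc
  exact zero_ne_one hc

theorem OmL_le (hq : q ≠ 0) : OmL hp k L q ≤ TT D k := by
  refine (Subgroup.closure_le _).2 ?_
  rintro _ ⟨s, hs, c, -, hc, rfl⟩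
  exact ph_hS_mem hp hs (ne_zero_of_pow hq hc)

theorem OmL_exp (hq : q ≠ 0) : ∀ h ∈ OmL hp k L q, h ^ q = 1 := by
  intro h hh
  have key : ∀ x (_ : x ∈ OmL hp k L q), x ∈ TT D k ∧ x ^ q = 1 := by
    intro x hx
    refine Subgroup.closure_induction (p := fun x _ => x ∈ TT D k ∧ x ^ q = 1) ?_ ?_ ?_ ?_ hx
    · rintro _ ⟨s, hs, c, -, hc, rfl⟩
      have hc0 := ne_zero_of_pow hq hc
      refine ⟨ph_hS_mem hp hs hc0, ?_⟩
      rw [← map_pow, hS_pow hc0, hc, hS_one, map_one]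
    · exact ⟨one_mem _, one_pow _⟩
    · rintro x y - - ⟨hx, hx1⟩ ⟨hy, hy1⟩
      refine ⟨mul_mem hx hy, ?_⟩
      have h1 : Commute x y := TT_comm hp (K := k) x hx y hy
      rw [h1.mul_pow, hx1, hy1, one_mul]
    · rintro x - ⟨hx, hx1⟩
      exact ⟨inv_mem hx, by rw [inv_pow, hx1, inv_one]⟩
  exact (key h hh).2

variable (hp) in
include hp in
/-- a group of torus elements of exponent `q` is finite -/
theorem finite_of_exp {Om : Subgroup ↥(D.group k)} (hq : 0 < q) (hle : Om ≤ TT D k) (hexp : ∀ h ∈ Om, h ^ q = 1) :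
    Finite Om := by
  classical
  have hfin : (Set.Finite {x : k | x ^ q = 1}) := by
    refine Set.Finite.subset (Polynomial.nthRoots q (1 : k)).toFinset.finite_toSet ?_
    intro x hx
    rw [Finset.mem_coe, Multiset.mem_toFinset, Polynomial.mem_nthRoots hq]
    exact hx
  have : Finite {x : k | x ^ q = 1} := hfin
  let f : ↥Om → (Fin l → {x : k | x ^ q = 1}) := fun t i => ⟨cX hp (t : ↥(D.group k)) (sr i), by
    show cX hp (t : ↥(D.group k)) (sr i) ^ q = 1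
    rw [← cX_pow hp (hle t.2), hexp t t.2, cX_one]⟩
  refine Finite.of_injective f ?_
  intro s t hst
  refine Subtype.ext (cX_inj hp (hle s.2) (hle t.2) fun i => ?_)
  exact congrArg Subtype.val (congrFun hst i)

variable (hk : LocFin k) {p : ℕ} [Fact p.Prime] [CharP k p]

include hk p in
theorem cX_ph {s : ℕ} (hs : s < D.nroots) {c : k} (hc : c ≠ 0) {r : ℕ} (hr : r < D.nroots) :
    cX hp (ph hp k hs (hS c)) (vec D l r) = c ^ expo D s r := by
  rw [cX_vec hp (ph_hS_mem hp hs hc) hr, ch_ph_hS hp hs p hk hc hr]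

include hk p in
/-- **The minors.** -/
theorem minor {R : Subgroup ↥(D.group k)} (hq : q.Prime) (hP : PairP q (OmL hp k L q) R) {ζ : k}
    (hζ : IsPrimitiveRoot ζ q) {d d' : ℕ} (hd : d < D.nroots) (hd' : d' < D.nroots) (hL : d ∈ L) (hL' : d' ∈ L)
    {r r' : ℕ} (hr : r < D.nroots) (hr' : r' < D.nroots) (h1 : ∀ h ∈ R, ch hp (vec D l r) h = 1)
    (h2 : ∀ h ∈ R, ch hp (vec D l r') h = 1) :
    (q : ℤ) ∣ expo D d r * expo D d' r' - expo D d' r * expo D d r' := by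
  have hζ0 : ζ ≠ 0 := hζ.ne_zero hq.ne_zero
  obtain ⟨x, y, hxy, hR⟩ := hP _ (mem_OmL (hp := hp) hd hL hζ.pow_eq_one) _ (mem_OmL (hp := hp) hd' hL' hζ.pow_eq_one)
  have hT := ph_hS_mem hp hd hζ0
  have hT' := ph_hS_mem hp hd' hζ0
  have key : ∀ r, r < D.nroots → (∀ h ∈ R, ch hp (vec D l r) h = 1) →
      (q : ℤ) ∣ (x : ℤ) * expo D d r + (y : ℤ) * expo D d' r := by
    intro r hr h
    have h3 := h _ hR
    rw [← cX_vec hp (mul_mem (pow_mem hT x) (pow_mem hT' y)) hr, cX_mul hp (pow_mem hT x) (pow_mem hT' y),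
      cX_pow hp hT, cX_pow hp hT', cX_ph hk (p := p) hd hζ0 hr, cX_ph hk (p := p) hd' hζ0 hr] at h3
    rw [← zpow_natCast, ← zpow_natCast, ← zpow_mul, ← zpow_mul, ← zpow_add₀ hζ0, hζ.zpow_eq_one_iff_dvd] at h3
    rwa [mul_comm (x : ℤ), mul_comm (y : ℤ)]
  have k1 := key r hr h1
  have k2 := key r' hr' h2
  have hqz : Prime (q : ℤ) := Nat.prime_iff_prime_int.1 hq
  have hx : (q : ℤ) ∣ (x : ℤ) * (expo D d r * expo D d' r' - expo D d' r * expo D d r') := by
    have : (x : ℤ) * (expo D d r * expo D d' r' - expo D d' r * expo D d r') =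
        ((x : ℤ) * expo D d r + (y : ℤ) * expo D d' r) * expo D d' r' -
          ((x : ℤ) * expo D d r' + (y : ℤ) * expo D d' r') * expo D d' r := by ring
    rw [this]
    exact dvd_sub (dvd_mul_of_dvd_left k1 _) (dvd_mul_of_dvd_left k2 _)
  have hy : (q : ℤ) ∣ (y : ℤ) * (expo D d r * expo D d' r' - expo D d' r * expo D d r') := by
    have : (y : ℤ) * (expo D d r * expo D d' r' - expo D d' r * expo D d r') =
        ((x : ℤ) * expo D d r' + (y : ℤ) * expo D d' r') * expo D d r -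
          ((x : ℤ) * expo D d r + (y : ℤ) * expo D d' r) * expo D d r' := by ring
    rw [this]
    exact dvd_sub (dvd_mul_of_dvd_left k2 _) (dvd_mul_of_dvd_left k1 _)
  by_contra hn
  have a1 := (hqz.dvd_or_dvd hx).resolve_right hn
  have a2 := (hqz.dvd_or_dvd hy).resolve_right hn
  exact hxy ⟨Int.natCast_dvd_natCast.1 a1, Int.natCast_dvd_natCast.1 a2⟩

include hk p in
/-- the value of `[[t,b],b]` -/
theorem quad_val [IsAlgClosed k] {w : M.Group} {b : ↥(D.group k)}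
    (hb : Rp M.toCoxeterSystem (tow hp M.toCoxeterSystem hk p).nsys w b) {t : ↥(D.group k)} (ht : t ∈ TT D k)
    (h : ⁅⁅t, b⁆, b⁆ = 1) (x : Fin l → ℤ) :
    cX hp t (rep M.toCoxeterSystem hp.isCartan w x) * cX hp t (rep M.toCoxeterSystem hp.isCartan w⁻¹ x) =
      cX hp t x ^ 2 := by
  -- conjugates
  have h1 : b * t * b⁻¹ ∈ TT D k := rp_conj_mem hp hk hb ht
  have h2 : b * (b * t * b⁻¹) * b⁻¹ ∈ TT D k := rp_conj_mem hp hk hb h1
  have v1 : ∀ y, cX hp (b * t * b⁻¹) y = cX hp t (rep M.toCoxeterSystem hp.isCartan w⁻¹ y) := by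
    intro y
    have h3 := cX_rp' hp hk hb ht (rep M.toCoxeterSystem hp.isCartan w⁻¹ y)
    rwa [rep_apply_inv] at h3
  have v2 : ∀ y, cX hp (b * (b * t * b⁻¹) * b⁻¹) y =
      cX hp t (rep M.toCoxeterSystem hp.isCartan w⁻¹ (rep M.toCoxeterSystem hp.isCartan w⁻¹ y)) := by
    intro y
    have h3 := cX_rp' hp hk hb h1 (rep M.toCoxeterSystem hp.isCartan w⁻¹ y)
    rw [rep_apply_inv] at h3
    rw [h3, v1]
  have hcomm : ∀ s ∈ TT D k, ∀ t ∈ TT D k, s * t = t * s := TT_comm hp (K := k)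
  have e : t * (b * (b * t * b⁻¹) * b⁻¹) = (b * t * b⁻¹) * (b * t * b⁻¹) := by
    have h4 : ⁅t, b⁆ = t * (b * t * b⁻¹)⁻¹ := by
      rw [commutatorElement_def]
      group
    have h5 : ⁅⁅t, b⁆, b⁆ = ⁅t, b⁆ * (b * ⁅t, b⁆ * b⁻¹)⁻¹ := by
      rw [commutatorElement_def ⁅t, b⁆ b]
      group
    rw [h5, h4, mul_inv_eq_one] at h
    have h6 : b * (t * (b * t * b⁻¹)⁻¹) * b⁻¹ = (b * t * b⁻¹) * (b * (b * t * b⁻¹) * b⁻¹)⁻¹ := by group
    rw [h6] at h
    have h7 := congrArg (fun z => z * (b * t * b⁻¹) * (b * (b * t * b⁻¹) * b⁻¹)) h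
    simp only [inv_mul_cancel_right] at h7
    rw [h7]
    rw [mul_assoc (b * t * b⁻¹), mul_assoc (b * t * b⁻¹), hcomm _ (inv_mem h2) _ h1, mul_assoc (b * t * b⁻¹) (_)⁻¹,
      inv_mul_cancel, mul_one]
  have h8 : cX hp (t * (b * (b * t * b⁻¹) * b⁻¹)) (rep M.toCoxeterSystem hp.isCartan w x) =
    cX hp ((b * t * b⁻¹) * (b * t * b⁻¹)) (rep M.toCoxeterSystem hp.isCartan w x) := by rw [e]
  rw [cX_mul hp ht h2, cX_mul hp h1 h1, v1, v2, rep_inv_apply, ← pow_two] at h8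
  exact h8

end General

/-! ### type `E₆` -/

section E6

/-- four roots spanning the lattice of the fixed `D₄` -/
abbrev L6 : List ℕ := LE6

/-- the bilinear form -/
def Bf (x y : Fin 6 → ℤ) : ℤ := ∑ i, x i * pairing (cartanOf chevE6 6) i y

theorem cartan_symm : ∀ i j : Fin 6, cartanOf chevE6 6 i j = cartanOf chevE6 6 j i := by decide +kernel

theorem cartan_diag : ∀ i : Fin 6, cartanOf chevE6 6 i i = 2 := by decide +kernel

theorem Bf_symm (x y : Fin 6 → ℤ) : Bf x y = Bf y x := by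
  unfold Bf pairing
  simp only [Finset.mul_sum]
  rw [Finset.sum_comm]
  refine Finset.sum_congr rfl fun i _ => Finset.sum_congr rfl fun j _ => ?_
  rw [cartan_symm j i]
  ring

theorem Bf_add_right (x y z : Fin 6 → ℤ) : Bf x (y + z) = Bf x y + Bf x z := by
  unfold Bf
  rw [← Finset.sum_add_distrib]
  exact Finset.sum_congr rfl fun i _ => by rw [pairing_add, mul_add]

theorem Bf_zero_right (x : Fin 6 → ℤ) : Bf x 0 = 0 := by
  have h := Bf_add_right x 0 0
  rw [add_zero] at h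
  omega

theorem Bf_single_left (i : Fin 6) (c : ℤ) (y : Fin 6 → ℤ) :
    Bf (Pi.single i c) y = c * pairing (cartanOf chevE6 6) i y := by
  unfold Bf
  rw [Finset.sum_eq_single i]
  · rw [Pi.single_eq_same]
  · intro j _ hj
    rw [Pi.single_eq_of_ne hj, zero_mul]
  · intro h
    exact absurd (Finset.mem_univ i) h

theorem Bf_add_left (x y z : Fin 6 → ℤ) : Bf (x + y) z = Bf x z + Bf y z := by
  rw [Bf_symm, Bf_add_right, Bf_symm z x, Bf_symm z y]

theorem Bf_neg_left (x z : Fin 6 → ℤ) : Bf (-x) z = -Bf x z := by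
  have h := Bf_add_left x (-x) z
  rw [add_neg_cancel, Bf_symm 0, Bf_zero_right] at h
  omega

theorem Bf_sub_left (x y z : Fin 6 → ℤ) : Bf (x - y) z = Bf x z - Bf y z := by
  rw [sub_eq_add_neg, Bf_add_left, Bf_neg_left, sub_eq_add_neg]

theorem Bf_sub_right (x y z : Fin 6 → ℤ) : Bf x (y - z) = Bf x y - Bf x z := by
  rw [Bf_symm, Bf_sub_left, Bf_symm y, Bf_symm z]

variable (hp : IsType chevE6 6 CoxeterMatrix.E₆)

theorem Bf_refl (i : Fin 6) (x y : Fin 6 → ℤ) :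
    Bf (refl (cartanOf chevE6 6) i x) (refl (cartanOf chevE6 6) i y) = Bf x y := by
  have hr : ∀ z : Fin 6 → ℤ, refl (cartanOf chevE6 6) i z = z - Pi.single i (pairing (cartanOf chevE6 6) i z) :=
    fun _ => rfl
  have hd : pairing (cartanOf chevE6 6) i (Pi.single i (pairing (cartanOf chevE6 6) i y)) =
      2 * pairing (cartanOf chevE6 6) i y := by
    unfold pairing
    rw [Finset.sum_eq_single i]
    · rw [Pi.single_eq_same]
      rw [cartan_diag]
    · intro j _ hj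
      rw [Pi.single_eq_of_ne hj, mul_zero]
    · intro h
      exact absurd (Finset.mem_univ i) h
  rw [hr, hr, Bf_sub_left, Bf_sub_right, Bf_sub_right, Bf_single_left, Bf_single_left, hd, Bf_symm x (Pi.single i _),
    Bf_single_left]
  ring

theorem Bf_rep (w : CoxeterMatrix.E₆.Group) (x y : Fin 6 → ℤ) :
    Bf (rep CoxeterMatrix.E₆.toCoxeterSystem hp.isCartan w x) (rep CoxeterMatrix.E₆.toCoxeterSystem hp.isCartan w y) =
      Bf x y := by
  induction w using CoxeterMatrix.E₆.toCoxeterSystem.simple_induction_left generalizing x y with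
  | one => rw [map_one]; rfl
  | mul_simple_left w i ih =>
    rw [rep_mul_apply, rep_mul_apply, rep_simple, Bf_refl, ih]

/-- the exponents `⟨r, s⟩`, `s ∈ L6` -/
def Etab : List (List ℤ) := [[2, 1, 1, 1], [1, 2, 1, 1], [1, 1, 2, 0], [1, 1, 1, 1], [1, 1, 1, 0], [1, 1, 1,
  1], [1, 1, 0, 2], [1, 1, 0, 1], [1, 0, 1, 1], [1, 0, 1, 0], [1, 0, 0, 1], [0, 1, 1, 1], [0, 1, 1, 0], [0, 1,
  0, 1], [0, 0, 1, 0], [0, 0, 0, 1], [1, 1, 1, 0], [1, 1, 0, 1], [1, 1, 0, 0], [1, 0, 1, 0], [1, 0, 1, -1],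
  [1, 0, 0, 0], [1, 0, 0, 1], [1, 0, 0, 0], [1, 0, -1, 1], [1, -1, 0, 0], [0, 1, 1, 0], [0, 1, 1, -1], [0, 1,
  0, 0], [0, 0, 1, -1], [0, 1, 0, 1], [0, 1, 0, 0], [0, 1, -1, 1], [0, 0, 1, 0], [0, 0, 1, -1], [0, 0, 0, 1],
  [0, 0, 0, -1], [0, 0, -1, 1], [0, 0, -1, 0], [0, -1, 1, -1], [0, -1, 0, 0], [0, -1, 0, -1], [0, 0, -1, 1],
  [0, -1, 0, 0], [0, -1, -1, 1], [0, -1, -1, 0], [-1, 1, 0, 0], [-1, 0, 1, -1], [-1, 0, 0, 0], [-1, 0, 0, -1],
  [-1, 0, 0, 0], [-1, 0, -1, 1], [-1, 0, -1, 0], [-1, -1, 0, 0], [-1, -1, 0, -1], [-1, -1, -1, 0], [0, 0, 0,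
  -1], [0, 0, -1, 0], [0, -1, 0, -1], [0, -1, -1, 0], [0, -1, -1, -1], [-1, 0, 0, -1], [-1, 0, -1, 0], [-1, 0,
  -1, -1], [-1, -1, 0, -1], [-1, -1, 0, -2], [-1, -1, -1, -1], [-1, -1, -1, 0], [-1, -1, -1, -1], [-1, -1, -2,
  0], [-1, -2, -1, -1], [-2, -1, -1, -1]]

/-- the partner of a root: its image under the graph automorphism if different -/
def st6 : List ℕ := [11, 8, 6, 5, 16, 3, 2, 17, 1, 19, 22, 0, 26, 30, 33, 35, 4, 7, 2, 9, 1, 23, 10, 21, 1, 2,
  12, 0, 31, 34, 13, 28, 0, 14, 29, 15, 56, 42, 57, 0, 43, 58, 37, 40, 0, 59, 2, 1, 50, 61, 48, 1, 62, 2, 64,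
  67, 36, 38, 41, 45, 0, 49, 52, 1, 54, 2, 68, 55, 66, 6, 8, 11]

theorem tab_E : (List.range 72).map (fun r => L6.map (fun s => expo chevE6 s r)) = Etab := by decide +kernel

theorem tab_st : ∀ r < 72, pairOK chevE6 r (st6.getD r 0) = true := by decide +kernel

def mOK (e e' : List ℤ) : Bool := (List.range 4).any fun i => (List.range 4).any fun j =>
  decide (e.getD i 0 * e'.getD j 0 - e.getD j 0 * e'.getD i 0 ≠ 0) &&
    decide ((e.getD i 0 * e'.getD j 0 - e.getD j 0 * e'.getD i 0).natAbs ≤ 4)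

theorem tab_m : ∀ r < 72, ∀ r' < 72, (r' = r ∨ r' = chevE6.neg r ∨ r' = st6.getD r 0 ∨ r' = chevE6.neg (st6.getD r 0)) ∨
   mOK (Etab.getD r []) (Etab.getD r' []) = true := by decide +kernel

theorem tab_ne : ∀ r < 72, ∃ s ∈ L6, expo chevE6 s r ≠ 0 ∧ (expo chevE6 s r).natAbs ≤ 2 := by decide +kernel

theorem tab_two : ∀ s ∈ L6, ∀ r < 72, -2 ≤ expo chevE6 s r ∧ expo chevE6 s r ≤ 2 ∧ (expo chevE6 s r = 2 → r = s) := by
  decide +kernel

theorem tab_B : ∀ s ∈ L6, ∀ r < 72, expo chevE6 s r = Bf (vec chevE6 6 s) (vec chevE6 6 r) := by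
  decide +kernel

theorem lt_of_mem : ∀ s ∈ L6, s < 72 := by decide

theorem Etab_getD {r j : ℕ} (hr : r < 72) (hj : j < 4) : (Etab.getD r []).getD j 0 = expo chevE6 (L6.getD j 0) r := by
  rw [← tab_E]
  have h1 : ((List.range 72).map (fun r => L6.map (fun s => expo chevE6 s r))).getD r [] =
      L6.map (fun s => expo chevE6 s r) := by
    rw [List.getD_eq_getElem _ _ (by simpa using hr)]
    simp
  rw [h1, List.getD_eq_getElem _ _ (by simpa [L6, LE6] using hj), List.getD_eq_getElem _ _ (by simpa [L6, LE6] using hj)]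
  simp

/-- the toral `q`-group of the fixed `D₄` -/
def Om6 (hp : IsType chevE6 6 CoxeterMatrix.E₆) (k : Type u) [Field k] (q : ℕ) : Subgroup ↥(chevE6.group k) :=
  OmL hp k L6 q

variable {k : Type u} [Field k] (hk : LocFin k) {p : ℕ} [Fact p.Prime] [CharP k p] {q : ℕ}

theorem exists_prim [IsAlgClosed k] (p : ℕ) [Fact p.Prime] [CharP k p] (hq : q.Prime) (hqp : q ≠ p) :
    ∃ ζ : k, IsPrimitiveRoot ζ q := by
  have hne : NeZero (q : k) := ⟨fun h => hqp ((Nat.prime_dvd_prime_iff_eq Fact.out hq).1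
    ((CharP.cast_eq_zero_iff k p q).1 h)).symm⟩
  have := hq.pos
  have : NeZero q := ⟨hq.ne_zero⟩
  exact HasEnoughRootsOfUnity.exists_primitiveRoot k q

include hk p in
theorem cX_Bf {s : ℕ} (hs : s ∈ L6) {c : k} (hc : c ≠ 0) (x : Fin 6 → ℤ) :
    cX hp (ph hp k (lt_of_mem s hs) (hS c)) x = c ^ Bf (vec chevE6 6 s) x := by
  have hψ : IsMC (fun x : Fin 6 → ℤ => c ^ Bf (vec chevE6 6 s) x) :=
    { zero := by
        show c ^ Bf (vec chevE6 6 s) 0 = 1
        rw [Bf_zero_right, zpow_zero]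
      add := fun x y => by
        show c ^ Bf (vec chevE6 6 s) (x + y) = _
        rw [Bf_add_right, zpow_add₀ hc] }
  refine (isMC_cX hp (ph_hS_mem hp (lt_of_mem s hs) hc)).ext hψ (fun i => ?_) x
  have hr : chevE6.simple i < 72 := simple_lt hp.inList (lt_rank hp i)
  rw [← vec_simple hp i, cX_ph hk (p := p) (lt_of_mem s hs) hc hr, tab_B s hs _ hr]

theorem omOK_E6 [IsAlgClosed k] (hq : q.Prime) (h5 : 5 ≤ q) (hqp : q ≠ p) : OmOK hp hk p q (Om6 hp k q) := by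
  classical
  obtain ⟨ζ, hζ⟩ := exists_prim (k := k) p hq hqp
  have hζ0 : ζ ≠ 0 := hζ.ne_zero hq.ne_zero
  have hsmall : ∀ m : ℤ, (q : ℤ) ∣ m → m.natAbs < 5 → m = 0 := by
    intro m hm h
    have h1 : q ∣ m.natAbs := Int.natCast_dvd.1 hm
    have h2 := Nat.eq_zero_of_dvd_of_lt h1 (by omega)
    exact Int.natAbs_eq_zero.1 h2
  refine ⟨OmL_le hq.ne_zero, finite_of_exp hp hq.pos (OmL_le hq.ne_zero) (OmL_exp hq.ne_zero), OmL_exp hq.ne_zero,
    ?_, ?_, ?_⟩
  · -- no root is trivial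
    intro r hr
    obtain ⟨s, hs, hne, hle⟩ := tab_ne r hr
    refine ⟨_, mem_OmL (hp := hp) (lt_of_mem s hs) hs hζ.pow_eq_one, ?_⟩
    rw [ch_ph_hS hp (lt_of_mem s hs) p hk hζ0 hr, Ne, hζ.zpow_eq_one_iff_dvd]
    exact fun h => hne (hsmall _ h (by omega))
  · -- the hyperplanes
    intro R hR hP
    by_cases hex : ∃ r < 72, ∀ h ∈ R, ch hp (vec chevE6 6 r) h = 1
    · obtain ⟨r, hr, htr⟩ := hex
      refine ⟨1, r, st6.getD r 0, POK.of (tab_st r hr), fun a ha h1 => ?_⟩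
      obtain ⟨r', hr', rfl⟩ := (isRoot_iff hp CoxeterMatrix.E₆.toCoxeterSystem a).1 ha
      refine ⟨r', ?_, by rw [map_one]; rfl⟩
      rcases tab_m r hr r' hr' with h2 | h2
      · exact h2
      · exfalso
        unfold mOK at h2
        obtain ⟨i, hi, h2⟩ := List.any_eq_true.1 h2
        obtain ⟨j, hj, h2⟩ := List.any_eq_true.1 h2
        rw [Bool.and_eq_true, decide_eq_true_iff, decide_eq_true_iff] at h2
        rw [List.mem_range] at hi hj
        rw [Etab_getD hr hi, Etab_getD hr hj, Etab_getD hr' hi, Etab_getD hr' hj] at h2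
        have hLi : ∀ i < 4, L6.getD i 0 ∈ L6 := by decide
        have h3 := minor hk (p := p) hq hP hζ (lt_of_mem _ (hLi i hi)) (lt_of_mem _ (hLi j hj)) (hLi i hi) (hLi j hj)
          hr hr' htr h1
        exact h2.1 (hsmall _ h3 (by omega))
    · refine ⟨1, 0, st6.getD 0 0, POK.of (tab_st 0 (by norm_num)), fun a ha h1 => ?_⟩
      obtain ⟨r', hr', rfl⟩ := (isRoot_iff hp CoxeterMatrix.E₆.toCoxeterSystem a).1 ha
      exact absurd ⟨r', hr', h1⟩ hex
  · -- quadratic action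
    intro w b hb hquad
    have hfix : ∀ s ∈ L6, rep CoxeterMatrix.E₆.toCoxeterSystem hp.isCartan w (vec chevE6 6 s) = vec chevE6 6 s := by
      intro s hs
      have h1 := quad_val hk (p := p) hb (ph_hS_mem hp (lt_of_mem s hs) hζ0)
        (hquad _ (mem_OmL (hp := hp) (lt_of_mem s hs) hs hζ.pow_eq_one)) (vec chevE6 6 s)
      rw [cX_Bf hp hk (p := p) hs hζ0, cX_Bf hp hk (p := p) hs hζ0, cX_Bf hp hk (p := p) hs hζ0] at h1
      have h2 : Bf (vec chevE6 6 s) (rep CoxeterMatrix.E₆.toCoxeterSystem hp.isCartan w⁻¹ (vec chevE6 6 s)) =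
          Bf (vec chevE6 6 s) (rep CoxeterMatrix.E₆.toCoxeterSystem hp.isCartan w (vec chevE6 6 s)) := by
        rw [← Bf_rep hp w, rep_apply_inv, Bf_symm]
      have h3 : Bf (vec chevE6 6 s) (vec chevE6 6 s) = 2 := by
        rw [← tab_B s hs s (lt_of_mem s hs)]
        unfold expo
        rw [if_pos rfl]
      rw [h2, h3] at h1
      obtain ⟨r, hr, hre⟩ := (isRoot_iff hp CoxeterMatrix.E₆.toCoxeterSystem _).1
        (((isRoot_iff hp CoxeterMatrix.E₆.toCoxeterSystem _).2 ⟨s, lt_of_mem s hs, rfl⟩).act w)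
      rw [← hre, ← tab_B s hs r hr] at h1
      obtain ⟨e1, e2, e3⟩ := tab_two s hs r hr
      have h4 : ζ ^ (2 * expo chevE6 s r - 4) = 1 := by
        rw [zpow_sub₀ hζ0, two_mul, zpow_add₀ hζ0, h1]
        have h5 : (ζ ^ (2 : ℤ)) ^ 2 = ζ ^ (4 : ℤ) := by
          rw [← zpow_natCast, ← zpow_mul]
          norm_num
        rw [h5, div_self (zpow_ne_zero _ hζ0)]
      rw [hζ.zpow_eq_one_iff_dvd] at h4
      have h6 : expo chevE6 s r = 2 := by
        by_contra hne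
        have h7 : (q : ℤ) ∣ 2 * (expo chevE6 s r - 2) := by
          rw [show 2 * (expo chevE6 s r - 2) = 2 * expo chevE6 s r - 4 by ring]
          exact h4
        have hqz : Prime (q : ℤ) := Nat.prime_iff_prime_int.1 hq
        rcases hqz.dvd_or_dvd h7 with h8 | h8
        · have := hsmall _ h8 (by norm_num)
          omega
        · have := hsmall _ h8 (by omega)
          omega
      rw [← hre, e3 h6]
    by_contra hw
    have hWf := finite_W hp (CoxeterMatrix.E₆.toCoxeterSystem)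
    obtain ⟨a, ha, hsum⟩ := Fix.exists_root_sum_eq_zero (cs := CoxeterMatrix.E₆.toCoxeterSystem) (h := hp.isCartan) hw
      (orderOf_pos w) (pow_orderOf_eq_one w)
    have hfix' : ∀ s ∈ L6, ∀ i : ℕ,
        rep CoxeterMatrix.E₆.toCoxeterSystem hp.isCartan (w ^ i) (vec chevE6 6 s) = vec chevE6 6 s := by
      intro s hs i
      induction i with
      | zero => rw [pow_zero, map_one]; rfl
      | succ i ih => rw [pow_succ', rep_mul_apply, ih, hfix s hs]
    obtain ⟨r, hr, rfl⟩ := (isRoot_iff hp CoxeterMatrix.E₆.toCoxeterSystem a).1 ha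
    obtain ⟨s, hs, hne, -⟩ := tab_ne r hr
    apply hne
    have h1 : ∀ n : ℕ, Bf (vec chevE6 6 s) (∑ i ∈ Finset.range n,
        rep CoxeterMatrix.E₆.toCoxeterSystem hp.isCartan (w ^ i) (vec chevE6 6 r)) =
          n * Bf (vec chevE6 6 s) (vec chevE6 6 r) := by
      intro n
      induction n with
      | zero => rw [Finset.sum_range_zero, Bf_zero_right]; simp
      | succ n ih =>
        rw [Finset.sum_range_succ, Bf_add_right, ih]
        have h2 := Bf_rep hp (w ^ n) (vec chevE6 6 s) (vec chevE6 6 r)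
        rw [hfix' s hs n] at h2
        rw [h2]
        push_cast
        ring
    have h2 := h1 (orderOf w)
    rw [hsum, Bf_zero_right] at h2
    rw [tab_B s hs r hr]
    have h3 : (orderOf w : ℤ) ≠ 0 := by
      have := orderOf_pos w
      omega
    exact (mul_eq_zero.1 h2.symm).resolve_left h3

end E6

end Cfsg.Agent.H14.BSE6
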