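import Cfsg.Agent.H554.BS.Sigma
import Cfsg.Agent.H129.TorusUntw

/-!
# Root torus elements of order 4 in the twisted finite group (S4312 row (f))

* `comm_mem_range` : `z * h_d(i) * z⁻¹` lies in the image of the finite group (it is a commutator of fixed points).
-/

set_option autoImplicit false
set_option linter.unusedSectionVars false

namespace Cfsg.Agent.H14.CommRange

open CoxeterSystem Cfsg Cfsg.Lie Cfsg.Lie.ChevalleyDatum
open Cfsg.Agent.ChevalleyStructure Cfsg.Agent.ChevalleyStructure.Elts Cfsg.Agent.ChevalleyStructure.CoxeterGeom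
  Cfsg.Agent.ChevalleyStructure.CoxeterGeomTypes Cfsg.Agent.ChevalleyStructure.NPerm
open Cfsg.Agent.Tits.Roots Cfsg.Agent.Tits.Core Cfsg.Agent.Nodes Cfsg.Agent.Nodes.Reps Cfsg.Agent.Nodes.BNOf
  Cfsg.Agent.Nodes.RGDChev Cfsg.Agent.Nodes.Bruhat Cfsg.Agent.Nodes.NormalForm
open Cfsg.Agent.KFacts.RgdField Cfsg.Agent.KFacts.RgdChevCoord
open Cfsg.Agent.BpExc Cfsg.Agent.BpExc.TorCent Cfsg.Agent.BpExc.TorChev Cfsg.Agent.BpExc.Tow
  Cfsg.Agent.BpExc.TowChev Cfsg.Agent.BpExc.Fr Cfsg.Agent.BpExc.Pair Cfsg.Agent.BpExc.LangFr Cfsg.Agent.GpExc.Field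
  Cfsg.Agent.BpExc.TorAll
open Cfsg.Agent.H469.Exc Cfsg.Agent.H469.Exc.SigFr
open Cfsg.Agent.Nodes.RGDFoldSL
open Cfsg.Agent.H167.EX Cfsg.Agent.H795.LangT Cfsg.Agent.H129.TorusChar Cfsg.Agent.H129.TorusUntw Cfsg.Agent.H554.BS
open scoped commutatorElement Pointwise

universe u v

section Comm

variable {D : ChevalleyDatum} {l : ℕ} {M : CoxeterMatrix (Fin l)} (hp : IsType D l M) {k : Type u} [Field k]
  [IsAlgClosed k] {p e : ℕ} [Fact p.Prime] [CharP k p] {F : Type u} [Field F] [Fintype F] (f0 : F →+* k)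

/-- commutators of fixed points lie in the image of the finite group -/
theorem comm_range (hq : Fintype.card F = p ^ e) {a b : ↥(D.group k)} (ha : phi D k p e a = a)
    (hb : phi D k p e b = b) : ⁅a, b⁆ ∈ (emb hp.inList f0).range := by
  obtain ⟨x, t, ht, rfl⟩ := fix_split hp f0 hq ha
  obtain ⟨y, s, hs, rfl⟩ := fix_split hp f0 hq hb
  have hft : phi D k p e t = t := by
    rw [map_mul, phi_emb hp f0 hq] at ha
    exact mul_left_cancel ha
  have hfs : phi D k p e s = s := by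
    rw [map_mul, phi_emb hp f0 hq] at hb
    exact mul_left_cancel hb
  have hconj : ∀ (u : ↥(D.group k)), phi D k p e u = u → ∀ n ∈ (emb hp.inList f0).range,
      u * n * u⁻¹ ∈ (emb hp.inList f0).range := fun u hu n hn =>
    Emb.conj_mem_range (F := F) (hD := hp.inList) (f := f0) (φ := iterateFrobenius k p e)
      (fun t => by rw [iterateFrobenius_def, hq]) (σ := phi D k p e) coe_phi hu hn
  have h1 := hconj t hft _ ⟨y, rfl⟩
  have h2 := hconj s hfs _ ⟨x, rfl⟩
  have hts : t * s = s * t := TT_comm hp (K := k) t ht s hs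
  have e1 : ⁅emb hp.inList f0 x * t, emb hp.inList f0 y * s⁆ =
      emb hp.inList f0 x * (t * emb hp.inList f0 y * t⁻¹) *
        (emb hp.inList f0 y * (s * emb hp.inList f0 x * s⁻¹))⁻¹ := by
    rw [commutatorElement_def]
    calc emb hp.inList f0 x * t * (emb hp.inList f0 y * s) * (emb hp.inList f0 x * t)⁻¹ * (emb hp.inList f0 y * s)⁻¹
        = emb hp.inList f0 x * (t * emb hp.inList f0 y * t⁻¹) * (t * s) * t⁻¹ * (emb hp.inList f0 x)⁻¹ * s⁻¹ *
          (emb hp.inList f0 y)⁻¹ := by group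
      _ = _ := by rw [hts]; group
  rw [e1]
  exact mul_mem (mul_mem ⟨x, rfl⟩ h1) (inv_mem (mul_mem ⟨y, rfl⟩ h2))

variable (hk : LocFin k)

include hk in
theorem comm_mem_range (he : 0 < e) (hq : Fintype.card F = p ^ e) {d : ℕ} {B : Fin l → Fin l → ℤ} (hB : InvC D l d B)
    (hd : d ≠ 0) (_h2 : (2 : k) ≠ 0) {i : k} (hi : i * i = -1) {ε : ℤ} (hε : ε = 1 ∨ ε = -1)
    (h4 : (4 : ℤ) ∣ (p : ℤ) ^ e - ε) {z : ↥(D.group k)}
    (hzT : ∀ t ∈ TT D k, (z⁻¹ * phi D k p e z) * t * (z⁻¹ * phi D k p e z)⁻¹ ∈ TT D k)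
    (hzX : ∀ t ∈ TT D k, ∀ x, cX hp ((z⁻¹ * phi D k p e z) * t * (z⁻¹ * phi D k p e z)⁻¹) x = cX hp t (ε • x))
    {d0 : ℕ} (hd0 : d0 < D.nroots) (c : Fin l → ℤ) (hc : ∑ j, c j * vec D l d0 j = 1) :
    z * ph hp k hd0 (hS i) * z⁻¹ ∈ (emb hp.inList f0).range := by
  classical
  have hi0 : i ≠ 0 := by rintro rfl; rw [mul_zero] at hi; exact one_ne_zero (neg_eq_zero.1 hi.symm)
  have hi4 : i ^ (4 : ℤ) = 1 := by
    have : i ^ (4 : ℤ) = (i * i) * (i * i) := by
      rw [show (4 : ℤ) = ((4 : ℕ) : ℤ) by norm_num, zpow_natCast]; ring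
    rw [this, hi]; ring
  have hεε : ε * ε = 1 := by rcases hε with rfl | rfl <;> norm_num
  obtain ⟨n, hn⟩ : ∃ n, n = z⁻¹ * phi D k p e z := ⟨_, rfl⟩
  rw [← hn] at hzT hzX
  -- the twisted automorphism
  obtain ⟨σ, hσ⟩ : ∃ σ : MulAut ↥(D.group k), σ = MulAut.conj n * phi D k p e := ⟨_, rfl⟩
  have hσa : ∀ y, σ y = n * phi D k p e y * n⁻¹ := fun y => by rw [hσ]; rfl
  have hfix : ∀ y, σ y = y → phi D k p e (z * y * z⁻¹) = z * y * z⁻¹ := by
    intro y hy
    rw [hσa] at hy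
    have h3 : phi D k p e z = z * n := by rw [hn]; group
    rw [map_mul, map_mul, map_inv, h3]
    calc z * n * phi D k p e y * (z * n)⁻¹ = z * (n * phi D k p e y * n⁻¹) * z⁻¹ := by group
      _ = _ := by rw [hy]
  have F0 : Fr M.toCoxeterSystem hp.isCartan (TT D k) (XX D l k) (phi D k p e) (AddEquiv.refl (Fin l → ℤ)) :=
    fr_phi hp M.toCoxeterSystem
  -- the Weyl group element of `n`
  obtain ⟨w, hw⟩ := exists_rp_of_normalizes hp hk (r := p) hzT
  have hrep : ∀ x, rep M.toCoxeterSystem hp.isCartan w x = ε • x := by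
    have h3 : ∀ x, rep M.toCoxeterSystem hp.isCartan w⁻¹ x = ε • x := by
      intro x
      refine cX_sep hp (k := k) hB hd fun t ht => ?_
      have h5 := cX_rp' hp hk hw ht (rep M.toCoxeterSystem hp.isCartan w⁻¹ x)
      rw [rep_apply_inv] at h5
      rw [← h5, hzX t ht]
    intro x
    have h5 := h3 (rep M.toCoxeterSystem hp.isCartan w x)
    rw [rep_inv_apply] at h5
    calc rep M.toCoxeterSystem hp.isCartan w x = (ε * ε) • rep M.toCoxeterSystem hp.isCartan w x := by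
          rw [hεε, one_smul]
      _ = ε • x := by rw [mul_smul, ← h5]
  have H := tow hp M.toCoxeterSystem hk p
  have F1 : Fr M.toCoxeterSystem hp.isCartan (TT D k) (XX D l k) (MulAut.conj n)
      (repAut M.toCoxeterSystem hp.isCartan w) := by
    have h3 := Fr.conj H hw
    rwa [TL_eq hp hk, XL_eq hp hk] at h3
  have F2 := F1.mul F0
  rw [← hσ] at F2
  have hFσ : IsFrob p e σ := by rw [hσ]; exact isFrob_phi.conj_mul n
  -- the torus element
  obtain ⟨L, hL⟩ : ∃ L : (Fin l → ℤ) → ℤ, L = fun x => ∑ j, c j * x j := ⟨_, rfl⟩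
  have hLa : ∀ x y, L (x + y) = L x + L y := by
    intro x y
    rw [hL]
    simp only [Pi.add_apply, mul_add, Finset.sum_add_distrib]
  have hLs : ∀ (m : ℤ) x, L (m • x) = m * L x := by
    intro m x
    rw [hL]
    simp only [Pi.smul_apply, smul_eq_mul, Finset.mul_sum]
    exact Finset.sum_congr rfl fun j _ => by ring
  have hLd : L (vec D l d0) = 1 := by rw [hL]; exact hc
  have hφ : IsMC (fun x : Fin l → ℤ => i ^ L x) :=
    { zero := by
        show i ^ L 0 = 1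
        have h3 := hLs 0 0
        rw [zero_smul, zero_mul] at h3
        rw [h3, zpow_zero]
      add := fun x y => by
        show i ^ L (x + y) = _
        rw [hLa, zpow_add₀ hi0] }
  obtain ⟨s, hs, hsX⟩ := exists_cX hp hB hd hφ (fun j => IsAlgClosed.exists_pow_nat_eq _ (Nat.pos_of_ne_zero hd))
  have hphis : phi D k p e s ∈ TT D k := (F0.tor s).2 hs
  have hσs : σ s = s := by
    rw [hσa]
    refine cX_inj hp (hzT _ hphis) hs fun j => ?_
    rw [hzX _ hphis]
    have h3 := cX_sigma hp M.toCoxeterSystem isFrob_phi F0 hs (ε • sr j)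
    have h5 : (AddEquiv.refl (Fin l → ℤ)) (ε • sr j) = ε • sr j := rfl
    rw [h5] at h3
    rw [h3, hsX, hsX, hLs, ← zpow_natCast, ← zpow_mul]
    obtain ⟨m, hm⟩ := h4
    have h6 : ε * L (sr j) * ((p ^ e : ℕ) : ℤ) = L (sr j) + 4 * (ε * m * L (sr j)) := by
      have h7 : ((p ^ e : ℕ) : ℤ) = ε + 4 * m := by push_cast; linarith
      rw [h7]
      linear_combination (L (sr j)) * hεε
    rw [h6, zpow_add₀ hi0, zpow_mul, hi4, one_zpow, mul_one]
  -- the reflection
  obtain ⟨v, hv⟩ := exists_rp_of_normalizes hp hk (r := p) (c := wE hp k d0) (fun t ht => (cX_wE hp hk hd0 p ht).1)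
  have hvX : ∀ y, rep M.toCoxeterSystem hp.isCartan v⁻¹ y = sra D l d0 y := by
    intro y
    refine cX_sep hp (k := k) hB hd fun t ht => ?_
    have h5 := cX_rp' hp hk hv ht (rep M.toCoxeterSystem hp.isCartan v⁻¹ y)
    rw [rep_apply_inv] at h5
    rw [← h5, (cX_wE hp hk hd0 p ht).2]
  obtain ⟨m, hm, hσm⟩ := exists_fixed_lift hp hk hB hd he hFσ F2 (v := v) (by
    intro x
    show rep M.toCoxeterSystem hp.isCartan v (rep M.toCoxeterSystem hp.isCartan w x) =
      rep M.toCoxeterSystem hp.isCartan w (rep M.toCoxeterSystem hp.isCartan v x)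
    rw [hrep, hrep, map_zsmul])
  have hsm : m * s * m⁻¹ ∈ TT D k := rp_conj_mem hp hk hm hs
  have key : ph hp k hd0 (hS i) = ⁅s, m⁆ := by
    have e1 : ⁅s, m⁆ = s * (m * s * m⁻¹)⁻¹ := by rw [commutatorElement_def]; group
    rw [e1]
    refine cX_inj hp (ph_hS_mem hp hd0 hi0) (mul_mem hs (inv_mem hsm)) fun j => ?_
    have hinv : cX hp (m * s * m⁻¹)⁻¹ (sr j) = (cX hp (m * s * m⁻¹) (sr j))⁻¹ := by
      refine eq_inv_of_mul_eq_one_left ?_
      rw [← cX_mul hp (inv_mem hsm) hsm, inv_mul_cancel, cX_one]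
    have h5 := cX_rp' hp hk hm hs (rep M.toCoxeterSystem hp.isCartan v⁻¹ (sr j))
    rw [rep_apply_inv, hvX, hsX] at h5
    rw [cX_mul hp hs (inv_mem hsm), hinv, h5, hsX, cX_ph_hS hp hk hd0 p hi0]
    have h6 : L (sra D l d0 (sr j)) = L (sr j) - fs D l d0 (sr j) := by
      have h7 := hLa (sra D l d0 (sr j)) (fs D l d0 (sr j) • vec D l d0)
      rw [hLs, hLd] at h7
      unfold sra at h7 ⊢
      rw [sub_add_cancel] at h7
      linarith
    show i ^ fs D l d0 (sr j) = i ^ L (sr j) * (i ^ L (sra D l d0 (sr j)))⁻¹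
    rw [h6, ← zpow_neg, ← zpow_add₀ hi0]
    congr 1
    ring
  have e2 : z * ph hp k hd0 (hS i) * z⁻¹ = ⁅z * s * z⁻¹, z * m * z⁻¹⁆ := by
    rw [key, commutatorElement_def, commutatorElement_def]
    group
  rw [e2]
  exact comm_range hp f0 hq (hfix s hσs) (hfix m hσm)

end Comm

end Cfsg.Agent.H14.CommRange
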