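import Cfsg.Agent.FixBN.RankOneL2

/-!
# Rank one groups: abelian tori and odd order centralisers of fixed point free involutions are cyclic

* `Tor U H y0 y1` : `H` is an abelian group of permutations of the family `U` fixing two points and containing the
  stabiliser of the two points in the group generated by the family;
* `CycFam U` : all such `H` are cyclic; for a fixed point free involution `th` permuting the family, every subgroup of
  odd order of `H ⊔ ⨆ U` commuting with `th` is cyclic;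
* `CycFam.map` (transport), `cycFam_lineFam` : the projective line.
-/

set_option autoImplicit false

namespace Cfsg.Agent.H14.CycLine

open Cfsg.Agent.FixBN Cfsg.Agent.FixBN.RankOneL2

/-- `H` is a maximal torus of the rank one group. -/
structure Tor {Om : Type*} (U : Om → Subgroup (Equiv.Perm Om)) (H : Subgroup (Equiv.Perm Om)) (y0 y1 : Om) : Prop where
  ne : y0 ≠ y1
  le : H ≤ famStab U
  fix0 : ∀ c ∈ H, c y0 = y0
  fix1 : ∀ c ∈ H, c y1 = y1
  comm : ∀ a ∈ H, ∀ b ∈ H, a * b = b * a
  cont : ∀ g ∈ ⨆ y, U y, g y0 = y0 → g y1 = y1 → g ∈ H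

/-- Tori and odd order centralisers of fixed point free involutions are cyclic. -/
structure CycFam {Om : Type*} (U : Om → Subgroup (Equiv.Perm Om)) : Prop where
  tor : ∀ H y0 y1, Tor U H y0 y1 → Finite H → IsCyclic H
  lin : ∀ H y0 y1, Tor U H y0 y1 → ∀ th ∈ famStab U, th * th = 1 → (∀ w, th w ≠ w) →
    ∀ E : Subgroup (Equiv.Perm Om), E ≤ H ⊔ (⨆ y, U y) → (∀ c ∈ E, c * th = th * c) → Odd (Nat.card E) → IsCyclic E

section Map

variable {Om Om' : Type*} (e : Om ≃ Om') {U : Om → Subgroup (Equiv.Perm Om)} {U' : Om' → Subgroup (Equiv.Perm Om')}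

theorem pc_apply (g : Equiv.Perm Om) (y : Om) : (e.permCongrHom g) (e y) = e (g y) := by
  show e (g (e.symm (e y))) = e (g y)
  rw [e.symm_apply_apply]

theorem iSup_map (hU : ∀ y g, g ∈ U y ↔ e.permCongr g ∈ U' (e y)) :
    (⨆ y, U y).map (e.permCongrHom).toMonoidHom = ⨆ y, U' y := by
  rw [Subgroup.map_iSup]
  apply le_antisymm
  · refine iSup_le fun y => ?_
    rintro _ ⟨g, hg, rfl⟩
    exact (le_iSup U' (e y)) ((hU y g).1 hg)
  · refine iSup_le fun y => ?_
    intro g hg
    obtain ⟨y, rfl⟩ := e.surjective y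
    obtain ⟨g, rfl⟩ := e.permCongrHom.surjective g
    exact (le_iSup (fun y => (U y).map (e.permCongrHom).toMonoidHom) y) ⟨g, (hU y g).2 hg, rfl⟩

theorem famStab_iff (hU : ∀ y g, g ∈ U y ↔ e.permCongr g ∈ U' (e y)) (c : Equiv.Perm Om) :
    c ∈ famStab U ↔ e.permCongrHom c ∈ famStab U' := by
  set f : Equiv.Perm Om ≃* Equiv.Perm Om' := e.permCongrHom with hf
  have hfa : ∀ g, f g = e.permCongr g := fun g => rfl
  have hcy : ∀ y, (f c) (e y) = e (c y) := pc_apply e c
  constructor
  · intro hc y g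
    obtain ⟨y, rfl⟩ := e.surjective y
    obtain ⟨g, rfl⟩ := f.surjective g
    rw [hcy, ← map_mul, ← map_inv, ← map_mul, hfa, hfa, ← hU, ← hU]
    exact hc y g
  · intro hc y g
    have := hc (e y) (f g)
    rwa [hcy, ← map_mul, ← map_inv, ← map_mul, hfa, hfa, ← hU, ← hU] at this

/-- The comap of a subgroup under an isomorphism. -/
theorem cyc_of_comap {A B : Type*} [Group A] [Group B] (f : A ≃* B) (H : Subgroup B)
    (h : IsCyclic (H.comap f.toMonoidHom)) : IsCyclic H :=
  isCyclic_of_surjective (f.toMonoidHom.subgroupComap H)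
    (f.toMonoidHom.subgroupComap_surjective_of_surjective H f.surjective)

theorem comap_bij {A B : Type*} [Group A] [Group B] (f : A ≃* B) (H : Subgroup B) :
    Function.Bijective (f.toMonoidHom.subgroupComap H) := by
  refine ⟨?_, f.toMonoidHom.subgroupComap_surjective_of_surjective H f.surjective⟩
  intro a b hab
  apply Subtype.ext
  apply f.injective
  exact congrArg Subtype.val hab

theorem Tor.comap (hU : ∀ y g, g ∈ U y ↔ e.permCongr g ∈ U' (e y)) {H : Subgroup (Equiv.Perm Om')} {y0 y1 : Om'}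
    (h : Tor U' H y0 y1) : Tor U (H.comap (e.permCongrHom).toMonoidHom) (e.symm y0) (e.symm y1) where
  ne := fun h1 => h.ne (e.symm.injective h1)
  le := fun c hc => (famStab_iff e hU c).2 (h.le hc)
  fix0 := fun c hc => by
    have h1 := h.fix0 _ hc
    change e (c (e.symm y0)) = y0 at h1
    exact (e.symm_apply_eq.2 h1.symm).symm
  fix1 := fun c hc => by
    have h1 := h.fix1 _ hc
    change e (c (e.symm y1)) = y1 at h1
    exact (e.symm_apply_eq.2 h1.symm).symm
  comm := fun a ha b hb => by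
    apply (e.permCongrHom).injective
    rw [map_mul, map_mul]
    exact h.comm _ ha _ hb
  cont := fun g hg h0 h1 => by
    refine h.cont _ ?_ ?_ ?_
    · rw [← iSup_map e hU]
      exact ⟨g, hg, rfl⟩
    · show e (g (e.symm y0)) = y0
      rw [h0, e.apply_symm_apply]
    · show e (g (e.symm y1)) = y1
      rw [h1, e.apply_symm_apply]

/-- Transport of `CycFam` under a bijection of the points. -/
theorem CycFam.map (hU : ∀ y g, g ∈ U y ↔ e.permCongr g ∈ U' (e y)) (h : CycFam U) : CycFam U' where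
  tor := fun H y0 y1 hH hfin => by
    apply cyc_of_comap e.permCongrHom
    refine h.tor _ _ _ (hH.comap e hU) ?_
    exact Finite.of_injective _ (comap_bij e.permCongrHom H).1
  lin := fun H y0 y1 hH th hth h2 hfree E hE hcen hodd => by
    set f : Equiv.Perm Om ≃* Equiv.Perm Om' := e.permCongrHom with hf
    obtain ⟨s, rfl⟩ := f.surjective th
    apply cyc_of_comap f
    refine h.lin _ _ _ (hH.comap e hU) s ((famStab_iff e hU s).2 hth) ?_ ?_ _ ?_ ?_ ?_
    · apply f.injective
      rw [map_mul, map_one]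
      exact h2
    · intro w hw
      apply hfree (e w)
      rw [hf, pc_apply, hw]
    · intro c hc
      have h1 : f c ∈ (H.comap f.toMonoidHom ⊔ ⨆ y, U y).map f.toMonoidHom := by
        rw [Subgroup.map_sup, hf, iSup_map e hU, Subgroup.map_comap_eq_self_of_surjective (e.permCongrHom).surjective]
        exact hE hc
      obtain ⟨d, hd, hdc⟩ := h1
      rw [← f.injective hdc]
      exact hd
    · intro c hc
      apply f.injective
      rw [map_mul, map_mul]
      exact hcen _ hc
    · rw [Nat.card_eq_of_bijective _ (comap_bij f E)]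
      exact hodd

end Map

/-! ### The projective line -/

variable {F : Type*} [Field F]

/-- The element `t ↦ s² t`. -/
noncomputable def dil (s : F) : Equiv.Perm (Option F) := tr s * (ni * tr s⁻¹ * ni * tr s * ni)

theorem dil_mem (s : F) : dil s ∈ psl2 F :=
  mul_mem (tr_mem s) (mul_mem (mul_mem (mul_mem (mul_mem ni_mem (tr_mem _)) ni_mem) (tr_mem s)) ni_mem)

theorem dil_none' {s : F} (hs : s ≠ 0) : dil s (none : Option F) = none := by
  show tr s ((ni * tr s⁻¹ * ni * tr s * ni : Equiv.Perm (Option F)) none) = none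
  rw [dil_none hs, tr_none]

theorem dil_some' {s : F} (hs : s ≠ 0) (t : F) : dil s (some t : Option F) = some (s ^ 2 * t) := by
  show tr s ((ni * tr s⁻¹ * ni * tr s * ni : Equiv.Perm (Option F)) (some t)) = some (s ^ 2 * t)
  rw [dil_some hs, tr_some]
  congr 1
  ring

theorem eq_id_of_sq (h2 : (2 : F) ≠ 0) (φ : F ≃+* F) (h : ∀ a : F, a ≠ 0 → φ a ^ 2 = a ^ 2) (x : F) : φ x = x := by
  have h' : ∀ a : F, φ (a ^ 2) = a ^ 2 := by
    intro a
    by_cases ha : a = 0
    · rw [ha, zero_pow two_ne_zero, map_zero]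
    · rw [map_pow, h a ha]
  have h1 : x = ((x + 1) / 2) ^ 2 - ((x - 1) / 2) ^ 2 := by
    field_simp
    ring
  conv_lhs => rw [h1]
  rw [map_sub, h', h', ← h1]

/-- A permutation of the root groups fixing `0`, `∞` and commuting with `t ↦ s² t` is `t ↦ m t`. -/
theorem exists_mul (h2 : (2 : F) ≠ 0) {c : Equiv.Perm (Option F)} (hc : c ∈ famStab (lineFam F))
    (h0 : c none = none) (h1 : c (some 0) = some 0) (hd : ∀ s : F, s ≠ 0 → c * dil s = dil s * c) :
    ∃ m : F, m ≠ 0 ∧ ∀ t, c (some t) = some (m * t) := by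
  obtain ⟨φ, T, hT⟩ := exists_lift_fix h2 hc h0 h1
  have e1 : ((1, 0) : F × F) ≠ 0 := by simp
  have e2 : ((0, 1) : F × F) ≠ 0 := by simp
  have h3 : (T (1, 0)).2 = 0 := by
    have h4 := hT.act _ e1
    rw [pt_zero, h0] at h4
    by_contra h5
    have h6 : pt (T (1, 0)) = some ((T (1, 0)).1 / (T (1, 0)).2) := pt_ne _ h5
    rw [h6] at h4
    exact Option.some_ne_none _ h4.symm
  have h4 : (T (0, 1)).1 = 0 ∧ (T (0, 1)).2 ≠ 0 := by
    have h4 := hT.act _ e2
    rw [pt_ne _ one_ne_zero, zero_div, h1] at h4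
    by_cases h5 : (T (0, 1)).2 = 0
    · exfalso
      have h6 : pt (T (0, 1)) = none := by
        have h7 : T (0, 1) = ((T (0, 1)).1, 0) := Prod.ext rfl h5
        rw [h7, pt_zero]
      rw [h6] at h4
      exact Option.some_ne_none _ h4
    · have h6 : pt (T (0, 1)) = some ((T (0, 1)).1 / (T (0, 1)).2) := pt_ne _ h5
      rw [h6] at h4
      have h7 := Option.some_injective _ h4
      exact ⟨by
        rcases div_eq_zero_iff.1 h7.symm with h8 | h8
        · exact h8
        · exact absurd h8 h5, h5⟩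
  set a := (T (1, 0)).1 with ha
  set r := (T (0, 1)).2 with hr
  have ha0 : a ≠ 0 := by
    intro h5
    apply map_ne_zero' T e1
    exact Prod.ext h5 h3
  have hval : ∀ t, c (some t) = some (a / r * φ t) := by
    intro t
    have h5 : ((t, 1) : F × F) ≠ 0 := by simp
    have h6 := hT.act _ h5
    rw [pt_ne _ one_ne_zero, div_one] at h6
    have h7 : T (t, 1) = (φ t * a, r) := by
      have h8 : ((t, 1) : F × F) = t • ((1, 0) : F × F) + ((0, 1) : F × F) := by simp
      rw [h8, map_add, hT.semi]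
      refine Prod.ext ?_ ?_
      · show φ t * (T (1, 0)).1 + (T (0, 1)).1 = φ t * a
        rw [h4.1, add_zero]
      · show φ t * (T (1, 0)).2 + (T (0, 1)).2 = r
        rw [h3, mul_zero, zero_add]
    rw [h6, h7, pt_ne _ h4.2]
    congr 1
    ring
  have hm : a / r ≠ 0 := div_ne_zero ha0 h4.2
  refine ⟨a / r, hm, fun t => ?_⟩
  rw [hval]
  congr 2
  apply eq_id_of_sq h2
  intro s hs
  have h5 := congrArg (fun g : Equiv.Perm (Option F) => g (some 1)) (hd s hs)
  change c (dil s (some 1)) = dil s (c (some 1)) at h5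
  rw [dil_some' hs, hval, hval, dil_some' hs, map_one, mul_one, mul_one, map_pow] at h5
  have h6 := Option.some_injective _ h5
  have h7 : a / r * φ s ^ 2 = a / r * s ^ 2 := by rw [h6]; ring
  exact mul_left_cancel₀ hm h7

/-- `psl2` is doubly transitive. -/
theorem exists_psl2 {y0 y1 : Option F} (h : y0 ≠ y1) : ∃ k ∈ psl2 F, k none = y0 ∧ k (some 0) = y1 := by
  have h1 : (toPt y0)⁻¹ y1 ≠ none := by
    intro h3
    apply h
    have h4 : toPt y0 ((toPt y0)⁻¹ y1) = y1 := (toPt y0).apply_symm_apply _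
    rw [h3, toPt_apply] at h4
    exact h4
  obtain ⟨s, hs⟩ := Option.ne_none_iff_exists'.mp h1
  refine ⟨toPt y0 * tr s, mul_mem (toPt_mem _) (tr_mem s), ?_, ?_⟩
  · change toPt y0 (tr s none) = y0
    rw [tr_none, toPt_apply]
  · change toPt y0 (tr s (some 0)) = y1
    rw [tr_some, zero_add, ← hs]
    exact (toPt y0).apply_symm_apply _

/-- The elements of a torus are, up to conjugation, `t ↦ m t`. -/
theorem tor_mul (h2 : (2 : F) ≠ 0) {H : Subgroup (Equiv.Perm (Option F))} {y0 y1 : Option F}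
    (h : Tor (lineFam F) H y0 y1) : ∃ k ∈ psl2 F, ∀ c ∈ H, (k⁻¹ * c * k) none = none ∧
      ∃ m : F, m ≠ 0 ∧ ∀ t, (k⁻¹ * c * k) (some t) = some (m * t) := by
  obtain ⟨k, hk, hk0, hk1⟩ := exists_psl2 h.ne
  refine ⟨k, hk, fun c hc => ?_⟩
  have h0 : (k⁻¹ * c * k) none = none := by
    change k⁻¹ (c (k none)) = none
    rw [hk0, h.fix0 c hc, ← hk0]
    exact k.symm_apply_apply _
  have h1 : (k⁻¹ * c * k) (some 0) = some 0 := by
    change k⁻¹ (c (k (some 0))) = some 0
    rw [hk1, h.fix1 c hc, ← hk1]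
    exact k.symm_apply_apply _
  refine ⟨h0, exists_mul h2 ?_ h0 h1 ?_⟩
  · exact mul_mem (mul_mem (inv_mem (psl2_le_famStab hk)) (h.le hc)) (psl2_le_famStab hk)
  · intro s hs
    have h3 : k * dil s * k⁻¹ ∈ H := by
      refine h.cont _ ?_ ?_ ?_
      · rw [iSup_lineFam]
        exact mul_mem (mul_mem hk (dil_mem s)) (inv_mem hk)
      · change k (dil s (k⁻¹ y0)) = y0
        rw [← hk0, show k⁻¹ (k none) = none from k.symm_apply_apply _, dil_none' hs]
      · change k (dil s (k⁻¹ y1)) = y1
        rw [← hk1, show k⁻¹ (k (some 0)) = some 0 from k.symm_apply_apply _, dil_some' hs, mul_zero]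
    have h4 := h.comm _ hc _ h3
    calc k⁻¹ * c * k * dil s = k⁻¹ * (c * (k * dil s * k⁻¹)) * k := by group
      _ = k⁻¹ * (k * dil s * k⁻¹ * c) * k := by rw [h4]
      _ = dil s * (k⁻¹ * c * k) := by group

/-- The linear permutations. -/
def linSub (F : Type*) [Field F] : Subgroup (Equiv.Perm (Option F)) where
  carrier := {c | ∃ S, Lift c (RingEquiv.refl F) S}
  one_mem' := ⟨_, Lift.one⟩
  mul_mem' := by
    rintro _ _ ⟨_, h1⟩ ⟨_, h2⟩
    exact ⟨_, h1.mul h2⟩
  inv_mem' := by
    rintro _ ⟨_, h1⟩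
    exact ⟨_, h1.inv⟩

theorem psl2_le_linSub : psl2 F ≤ linSub F := by
  unfold psl2
  rw [Subgroup.closure_le]
  rintro _ (⟨a, rfl⟩ | rfl)
  · exact ⟨_, lift_tr a⟩
  · exact ⟨_, lift_ni⟩

/-- `t ↦ m t` is linear. -/
theorem mem_linSub_of_mul {c : Equiv.Perm (Option F)} {m : F} (hm : m ≠ 0) (h0 : c none = none)
    (h : ∀ t, c (some t) = some (m * t)) : c ∈ linSub F := by
  let T : (F × F) ≃+ (F × F) :=
    { toFun := fun v => (m * v.1, v.2)
      invFun := fun v => (m⁻¹ * v.1, v.2)
      left_inv := fun v => by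
        ext
        · simp [inv_mul_cancel_left₀ hm]
        · simp
      right_inv := fun v => by
        ext
        · simp [mul_inv_cancel_left₀ hm]
        · simp
      map_add' := fun v w => by
        ext
        · simp; ring
        · simp }
  refine ⟨T, ?_, ?_⟩
  · rintro a ⟨x, y⟩
    change (m * (a * x), a * y) = a • (m * x, y)
    rw [Prod.smul_mk, smul_eq_mul, smul_eq_mul]
    congr 1
    ring
  · rintro ⟨x, y⟩ hv
    change c (pt (x, y)) = pt (m * x, y)
    by_cases hy : y = 0
    · subst hy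
      rw [pt_zero, pt_zero, h0]
    · rw [pt_ne _ hy, pt_ne _ hy, h]
      congr 1
      ring

theorem tor_le_linSub (h2 : (2 : F) ≠ 0) {H : Subgroup (Equiv.Perm (Option F))} {y0 y1 : Option F}
    (h : Tor (lineFam F) H y0 y1) : H ≤ linSub F := by
  obtain ⟨k, hk, hH⟩ := tor_mul h2 h
  intro c hc
  obtain ⟨h0, m, hm, h1⟩ := hH c hc
  have h3 : c = k * (k⁻¹ * c * k) * k⁻¹ := by group
  rw [h3]
  have hk' := psl2_le_linSub hk
  exact mul_mem (mul_mem hk' (mem_linSub_of_mul hm h0 h1)) (inv_mem hk')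

theorem cyc_tor (h2 : (2 : F) ≠ 0) {H : Subgroup (Equiv.Perm (Option F))} {y0 y1 : Option F}
    (h : Tor (lineFam F) H y0 y1) [Finite H] : IsCyclic H := by
  obtain ⟨k, hk, hH⟩ := tor_mul h2 h
  choose h0 m hm h1 using hH
  let f : H →* F :=
    { toFun := fun c => m c.1 c.2
      map_one' := by
        have h3 := h1 1 (one_mem H) 1
        have h4 : (k⁻¹ * 1 * k) (some 1 : Option F) = some 1 := by
          rw [mul_one, inv_mul_cancel]; rfl
        rw [h4, mul_one] at h3
        exact (Option.some_injective _ h3).symm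
      map_mul' := fun a b => by
        have h3 := h1 (a.1 * b.1) (mul_mem a.2 b.2) 1
        have h4 : (k⁻¹ * (a.1 * b.1) * k) (some 1 : Option F) =
            (k⁻¹ * a.1 * k) ((k⁻¹ * b.1 * k) (some 1)) := by
          rw [← Equiv.Perm.mul_apply]
          congr 1
          group
        rw [h4, h1 b.1 b.2, h1 a.1 a.2, mul_one, mul_one] at h3
        exact (Option.some_injective _ h3).symm }
  refine isCyclic_of_injective_ringHom f ?_
  intro a b hab
  have hab' : m a.1 a.2 = m b.1 b.2 := hab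
  have h3 : k⁻¹ * a.1 * k = k⁻¹ * b.1 * k := by
    apply Equiv.ext
    rintro (_ | t)
    · rw [h0 a.1 a.2, h0 b.1 b.2]
    · rw [h1 a.1 a.2, h1 b.1 b.2, hab']
  apply Subtype.ext
  exact mul_left_cancel (mul_right_cancel h3)

/-- The centraliser of a linear fixed point free involution. -/
theorem cyc_lin [Finite F] (h2 : (2 : F) ≠ 0) {th : Equiv.Perm (Option F)} (hth : th ∈ famStab (lineFam F))
    (hsq : th * th = 1) (hfree : ∀ w, th w ≠ w) (E : Subgroup (Equiv.Perm (Option F))) (hE : E ≤ linSub F)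
    (hcen : ∀ c ∈ E, c * th = th * c) (hodd : Odd (Nat.card E)) : IsCyclic E := by
  obtain ⟨φ, T, hT⟩ := exists_lift h2 hth
  obtain rfl := refl_of_free hsq hfree hT
  have hTl : ∀ (a : F) v, T (a • v) = a • T v := hT.semi
  obtain ⟨⟨l, hl0, hl⟩, -⟩ := (hsq ▸ hT.mul hT : Lift 1 _ _).scalar
  have hl' : ∀ v, T (T v) = l • v := hl
  have e1 : ((1, 0) : F × F) ≠ 0 := by simp
  -- every element of `E` has a lift commuting with `T`
  have key : ∀ c ∈ E, ∃ S : (F × F) ≃ₗ[F] (F × F), (∀ v, S (T v) = T (S v)) ∧ ∀ v, v ≠ 0 → c (pt v) = pt (S v) := by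
    intro c hc
    obtain ⟨k, hk⟩ := hodd
    have hd : c ^ (k + 1) ∈ E := pow_mem hc _
    have hdd : c ^ (k + 1) * c ^ (k + 1) = c := by
      have h3 : c ^ (Nat.card E) = 1 := by
        have := pow_card_eq_one' (x := (⟨c, hc⟩ : E))
        exact congrArg Subtype.val this
      rw [← pow_add]
      have h4 : k + 1 + (k + 1) = Nat.card E + 1 := by omega
      rw [h4, pow_succ, h3, one_mul]
    set d := c ^ (k + 1) with hddef
    obtain ⟨S, hS⟩ := hE hd
    have hSl : ∀ (a : F) v, S (a • v) = a • S v := hS.semi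
    have hmu : ∃ m : F, m ≠ 0 ∧ ∀ v, S (T v) = m • T (S v) := by
      have h3 := ((hS.mul hT).mul hS.inv).mul hT.inv
      have h4 : d * th * d⁻¹ * th⁻¹ = 1 := by
        rw [hcen d hd, mul_inv_cancel_right, mul_inv_cancel]
      rw [h4] at h3
      obtain ⟨⟨m, hm0, hm⟩, -⟩ := h3.scalar
      refine ⟨m, hm0, fun v => ?_⟩
      have h5 : S (T (S.symm (T.symm (T (S v))))) = m • T (S v) := hm (T (S v))
      rw [T.symm_apply_apply, S.symm_apply_apply] at h5
      exact h5
    obtain ⟨m, hm0, hm⟩ := hmu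
    have hm2 : m * m = 1 := by
      have h3 : S (T (T (1, 0))) = (m * m * l) • S (1, 0) := by
        rw [hm, hm, hTl, hl', smul_smul, smul_smul]
      rw [hl', hSl] at h3
      have h4 := smul_left_injective F (map_ne_zero' S e1) h3
      have h5 : (m * m) * l = 1 * l := by rw [one_mul]; exact h4.symm
      exact mul_right_cancel₀ hl0 h5
    let S' : (F × F) ≃ₗ[F] (F × F) := { S with map_smul' := hSl }
    have hS' : ∀ v, S' v = S v := fun v => rfl
    refine ⟨S'.trans S', fun v => ?_, fun v hv => ?_⟩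
    · change S (S (T v)) = T (S (S v))
      rw [hm, hSl, hm, smul_smul, hm2, one_smul]
    · change c (pt v) = pt (S (S v))
      rw [← hS.act _ (map_ne_zero' S hv), ← hS.act _ hv, ← Equiv.Perm.mul_apply, hdd]
  -- the ring
  let T' : Module.End F (F × F) := { toFun := T, map_add' := T.map_add, map_smul' := hTl }
  have hT'a : ∀ v, T' v = T v := fun v => rfl
  let R : Subalgebra F (Module.End F (F × F)) := Subalgebra.centralizer F {T'}
  have hR : ∀ S : Module.End F (F × F), S ∈ R ↔ ∀ v, S (T v) = T (S v) := by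
    intro S
    rw [Subalgebra.mem_centralizer_iff]
    constructor
    · intro h v
      have h3 := h T' rfl
      exact (congrArg (fun g : Module.End F (F × F) => g v) h3).symm
    · rintro h _ rfl
      ext v <;> exact congrArg _ (h _).symm
  have hform : ∀ S : Module.End F (F × F), S ∈ R → ∃ a b : F, ∀ v, S v = a • v + b • T v := by
    intro S hS
    rw [hR] at hS
    obtain ⟨a, b, hab⟩ := exists_comb hfree hT (S (1, 0))
    refine ⟨a, b, fun v => ?_⟩
    obtain ⟨x, y, rfl⟩ := exists_comb hfree hT v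
    rw [map_add, map_smul, map_smul, hS, hab, map_add, map_add, hTl, hTl, hTl, hTl]
    simp only [smul_add, smul_smul]
    rw [mul_comm x a, mul_comm x b, mul_comm y a, mul_comm y b]
    abel
  have hcomm : ∀ a b : R, a * b = b * a := by
    rintro ⟨a, ha⟩ ⟨b, hb⟩
    obtain ⟨a1, a2, ha'⟩ := hform a ha
    apply Subtype.ext
    apply LinearMap.ext
    intro v
    change a (b v) = b (a v)
    rw [ha', ha', map_add, map_smul, map_smul, (hR b).1 hb]
  have hzero : ∀ a : R, ∀ v : F × F, v ≠ 0 → a.1 v = 0 → a = 0 := by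
    rintro ⟨a, ha⟩ v hv h0
    obtain ⟨a1, a2, ha'⟩ := hform a ha
    have h3 : a1 • v + a2 • T v = 0 := by rw [← ha']; exact h0
    by_cases h4 : a2 = 0
    · rw [h4, zero_smul, add_zero] at h3
      have h5 := (smul_eq_zero.1 h3).resolve_right hv
      apply Subtype.ext
      apply LinearMap.ext
      intro w
      change a w = 0
      rw [ha', h4, h5, zero_smul, zero_smul, add_zero]
    · exfalso
      apply hfree (pt v)
      have h5 : T v = (-(a1 / a2)) • v := by
        have h6 : a2 • T v = -(a1 • v) := by rw [← add_eq_zero_iff_eq_neg, add_comm]; exact h3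
        have h7 : T v = a2⁻¹ • (a2 • T v) := by rw [smul_smul, inv_mul_cancel₀ h4, one_smul]
        rw [h7, h6, smul_neg, smul_smul, neg_smul]
        congr 2
        ring
      have h6 : -(a1 / a2) ≠ 0 := by
        intro h7
        rw [h7, zero_smul] at h5
        exact map_ne_zero' T hv h5
      rw [hT.act _ hv, h5, pt_smul h6]
  let _ : CommRing R := { (inferInstance : Ring R) with mul_comm := hcomm }
  have hdom : IsDomain R := by
    have hnt : Nontrivial R := ⟨⟨0, 1, fun h => by
      have h3 : (0 : Module.End F (F × F)) = 1 := congrArg Subtype.val h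
      have h4 := congrArg (fun g : Module.End F (F × F) => g (1, 0)) h3
      exact e1 h4.symm⟩⟩
    have : NoZeroDivisors R := ⟨by
      intro a b hab
      by_cases hb : b = 0
      · exact Or.inr hb
      · left
        refine hzero a (b.1 (1, 0)) ?_ ?_
        · intro h3
          exact hb (hzero b _ e1 h3)
        · exact congrArg (fun g : R => g.1 (1, 0)) hab⟩
    exact NoZeroDivisors.to_isDomain R
  -- the group of the lifts
  let G : Subgroup (((F × F) ≃ₗ[F] (F × F)) × Equiv.Perm (Option F)) :=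
    { carrier := {x | x.2 ∈ E ∧ (∀ v, x.1 (T v) = T (x.1 v)) ∧ ∀ v, v ≠ 0 → x.2 (pt v) = pt (x.1 v)}
      one_mem' := ⟨one_mem E, fun _ => rfl, fun _ _ => rfl⟩
      mul_mem' := by
        rintro a b ⟨ha1, ha2, ha3⟩ ⟨hb1, hb2, hb3⟩
        refine ⟨mul_mem ha1 hb1, fun v => ?_, fun v hv => ?_⟩
        · change a.1 (b.1 (T v)) = T (a.1 (b.1 v))
          rw [hb2, ha2]
        · change a.2 (b.2 (pt v)) = pt (a.1 (b.1 v))
          rw [hb3 v hv, ha3]
          intro h3
          exact hv ((LinearEquiv.map_eq_zero_iff b.1).1 h3)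
      inv_mem' := by
        rintro a ⟨ha1, ha2, ha3⟩
        refine ⟨inv_mem ha1, fun v => ?_, fun v hv => ?_⟩
        · change a.1.symm (T v) = T (a.1.symm v)
          apply a.1.injective
          rw [ha2, a.1.apply_symm_apply, a.1.apply_symm_apply]
        · change a.2⁻¹ (pt v) = pt (a.1.symm v)
          rw [Equiv.Perm.inv_eq_iff_eq, ha3, a.1.apply_symm_apply]
          intro h3
          exact hv ((LinearEquiv.map_eq_zero_iff a.1.symm).1 h3) }
  have hfin : Finite ((F × F) ≃ₗ[F] (F × F)) := DFunLike.finite _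
  have hGc : IsCyclic G := by
    let f : G →* R :=
      { toFun := fun x => ⟨x.1.1.toLinearMap, (hR _).2 x.2.2.1⟩
        map_one' := rfl
        map_mul' := fun a b => rfl }
    refine isCyclic_of_injective_ringHom f ?_
    rintro ⟨⟨a1, a2⟩, ha⟩ ⟨⟨b1, b2⟩, hb⟩ hab
    have h3 : a1.toLinearMap = b1.toLinearMap := congrArg Subtype.val hab
    have h4 : a1 = b1 := LinearEquiv.toLinearMap_injective h3
    subst h4
    have h5 : a2 = b2 := by
      apply Equiv.ext
      intro y
      obtain ⟨v, hv, rfl⟩ := pt_surj y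
      rw [ha.2.2 v hv, hb.2.2 v hv]
    subst h5
    rfl
  let π : G →* E :=
    { toFun := fun x => ⟨x.1.2, x.2.1⟩
      map_one' := rfl
      map_mul' := fun a b => rfl }
  refine isCyclic_of_surjective π ?_
  rintro ⟨c, hc⟩
  obtain ⟨S, hS1, hS2⟩ := key c hc
  exact ⟨⟨(S, c), hc, hS1, hS2⟩, rfl⟩

/-- **The projective line.** -/
theorem cycFam_lineFam [Finite F] (h2 : (2 : F) ≠ 0) : CycFam (lineFam F) where
  tor := fun H y0 y1 hH _ => cyc_tor h2 hH
  lin := fun H y0 y1 hH th hth hsq hfree E hE hcen hodd => by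
    refine cyc_lin h2 hth hsq hfree E (hE.trans (sup_le (tor_le_linSub h2 hH) ?_)) hcen hodd
    rw [iSup_lineFam]
    exact psl2_le_linSub

end Cfsg.Agent.H14.CycLine
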