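import Cfsg.Agent.H14.CycU3
import Cfsg.Agent.FixBN.GoodSplit

/-!
# Good nodes: the tori and the odd order centralisers on the panels are cyclic

* `GoodNode.cycFam` : `CycFam` for the panels of a good node.
-/

set_option autoImplicit false
set_option linter.dupNamespace false

namespace Cfsg.Agent.H14.CycNode

open Cfsg Cfsg.Agent.LieExceptional.BNPairCore Cfsg.Agent.Tits.Core Cfsg.Agent.Tits.Core.Bldg Cfsg.Agent.Tits.OfBN
  Cfsg.Agent.Schreier.BNSch Cfsg.Agent.FixBN Cfsg.Agent.FixBN.OfBN Cfsg.Agent.H14.CycLine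

section Field

open Cfsg.Agent.FixBN.FieldNode

theorem iso_of_model {G C : Type*} [Group G] [MulAction G C] {F : Type*} [Field F] (U : C → Subgroup G)
    (hU : ∀ (g : G) (x : C), ∀ u ∈ U x, g * u * g⁻¹ ∈ U (g • x)) {Q : Set C} (φ : Option F ≃ Q) (xx : F → G) (s : G)
    (hx : ∀ a z, xx a • (φ z : C) = φ (tr a z)) (hs : ∀ z, s • (φ z : C) = φ (ni z))
    (hxU : ∀ a, xx a ∈ U (φ none)) (hUx : ∀ u ∈ U (φ none), ∃ a, ∀ z, u • (φ z : C) = φ (tr a z))
    {fam : Q → Subgroup (Equiv.Perm Q)}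
    (hfam : ∀ y g, g ∈ fam y ↔ ∃ u ∈ U y, ∀ z, (g z : C) = u • (z : C)) :
    ∀ y g, g ∈ lineFam F y ↔ φ.permCongr g ∈ fam (φ y) := by
  -- the element of `G` acting as `toPt y`
  have hk : ∀ y : Option F, ∃ k : G, ∀ z, k • (φ z : C) = φ (toPt y z) := by
    rintro (_ | t)
    · exact ⟨1, fun z => by rw [one_smul]; rfl⟩
    · refine ⟨xx t * s, fun z => ?_⟩
      rw [mul_smul, hs, hx]
      rfl
  intro y g
  obtain ⟨k, hk⟩ := hk y
  have hky : k • (φ none : C) = φ y := by rw [hk, toPt_apply]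
  have hk' : ∀ z, k⁻¹ • (φ z : C) = φ ((toPt y)⁻¹ z) := by
    intro z
    rw [inv_smul_eq_iff, hk]
    congr 2
    exact ((toPt y).apply_symm_apply z).symm
  rw [hfam, mem_lineFam]
  constructor
  · rintro ⟨a, rfl⟩
    refine ⟨k * xx a * k⁻¹, ?_, ?_⟩
    · rw [← hky]
      exact hU k _ _ (hxU a)
    · intro z
      obtain ⟨z, rfl⟩ := φ.surjective z
      rw [mul_smul, mul_smul, hk', hx, hk]
      congr 1
      show φ ((toPt y * tr a * (toPt y)⁻¹) (φ.symm (φ z))) = _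
      rw [φ.symm_apply_apply]
      rfl
  · rintro ⟨u, hu, h⟩
    have hv : k⁻¹ * u * k ∈ U (φ none) := by
      have h1 := hU k⁻¹ _ u hu
      rwa [inv_inv, ← hky, inv_smul_smul] at h1
    obtain ⟨a, ha⟩ := hUx _ hv
    refine ⟨a, ?_⟩
    apply Equiv.ext
    intro z
    apply φ.injective
    apply Subtype.ext
    have h1 := h (φ z)
    have h2 : φ.permCongr g (φ z) = φ (g z) := by
      show φ (g (φ.symm (φ z))) = _
      rw [φ.symm_apply_apply]
    rw [h2] at h1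
    rw [h1]
    have h3 : u = k * (k⁻¹ * u * k) * k⁻¹ := by group
    rw [h3, mul_smul, mul_smul, hk', ha, hk]
    rfl


variable {K : Type*} [Group K] {P : Cfsg.BNPair K} {U V : Subgroup K} {s : K} {F : Type*} [Field F]
  (N : FieldNode P U s V F)
variable [hN : ((P.B ⊓ P.N).subgroupOf P.N).Normal] {p : ℕ} (S : Split P p U)
variable {I : Type*} {M : CoxeterMatrix I} (e : I ≃ P.S) (cs : CoxeterSystem M (WP P))
  (hcs : ∀ i, cs.simple i = QuotientGroup.mk (⟨(e i : K), P.subset (e i).2⟩ : P.N)) (i : I)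

include S in
/-- The panel is the projective line, and the root groups are those of the line. -/
theorem iso_mk (Nd : Node P U (e i : K) V) (N : FieldNode P U (e i : K) V F) (g : K)
    {fam : (bldg P e cs hcs).Pan i (QuotientGroup.mk g) →
      Subgroup (Equiv.Perm ((bldg P e cs hcs).Pan i (QuotientGroup.mk g)))}
    (hfam : ∀ y f, f ∈ fam y ↔ ∃ u ∈ UU P U (y : K ⧸ P.B), ∀ z, (f z : K ⧸ P.B) = u • (z : K ⧸ P.B)) :
    ∀ y f, f ∈ lineFam F y ↔ (par e cs hcs i S Nd N g).permCongr f ∈ fam (par e cs hcs i S Nd N g y) := by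
  have hBx : ∀ a, N.x a ∈ P.B := fun a => S.le (N.mem a)
  -- the action of `V`
  have hV : ∀ v ∈ V, ∀ a : F, (QuotientGroup.mk (g * v * N.x a * (e i : K)) : K ⧸ P.B) =
      QuotientGroup.mk (g * N.x a * (e i : K)) := by
    intro v hv a
    rw [mk_eq]
    have h1 : (g * v * N.x a * (e i : K))⁻¹ * (g * N.x a * (e i : K)) =
        ((e i : K)⁻¹ * ((N.x a)⁻¹ * v * (N.x a)⁻¹⁻¹) * (e i : K))⁻¹ := by group
    rw [h1]
    exact inv_mem (S.le (Nd.le (Nd.conj_s _ (Nd.conj_B _ (inv_mem (hBx a)) _ hv))))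
  have hxact : ∀ a z, (g * N.x a * g⁻¹) • (par e cs hcs i S Nd N g z : K ⧸ P.B) =
      par e cs hcs i S Nd N g (tr a z) := by
    rintro a (_ | t)
    · rw [tr_none, par_none, smul_mk, mk_eq]
      have h1 : (g * N.x a * g⁻¹ * g)⁻¹ * g = (N.x a)⁻¹ := by group
      rw [h1]
      exact inv_mem (hBx a)
    · rw [tr_some, par_some, par_some, smul_mk, add_comm t a, N.add]
      congr 1
      group
  refine iso_of_model (UU P U) (fun g x u hu => (smul_UU S).2 hu) (par e cs hcs i S Nd N g)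
    (fun a => g * N.x a * g⁻¹) (g * (e i : K) * g⁻¹) hxact ?_ ?_ ?_ hfam
  · rintro (_ | t)
    · rw [ni_none, par_none, par_some, smul_mk, N.x_zero]
      congr 1
      group
    · by_cases ht : t = 0
      · subst ht
        rw [ni_zero, par_none, par_some, smul_mk, mk_eq, N.x_zero]
        have h1 : (g * (e i : K) * g⁻¹ * (g * 1 * (e i : K)))⁻¹ * g = ((e i : K) * (e i : K))⁻¹ := by group
        rw [h1]
        exact inv_mem (P.sq_mem _ (e i).2)
      · rw [ni_some ht, par_some, par_some, smul_mk, mk_eq]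
        have h1 : (g * (e i : K) * g⁻¹ * (g * N.x t * (e i : K)))⁻¹ * (g * N.x (-t⁻¹) * (e i : K)) =
            ((N.x (-t⁻¹) * (e i : K))⁻¹ * ((e i : K) * N.x t * (e i : K)))⁻¹ := by group
        rw [h1]
        exact inv_mem (N.inv t ht)
  · intro a
    rw [par_none, mem_UU S]
    have h1 : g⁻¹ * (g * N.x a * g⁻¹) * g = N.x a := by group
    rw [h1]
    exact N.mem a
  · intro u hu
    rw [par_none, mem_UU S] at hu
    obtain ⟨a, ha⟩ := N.cover _ hu
    refine ⟨a, fun z => ?_⟩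
    have h1 : u = (g * N.x a * g⁻¹) * (g * ((N.x a)⁻¹ * (g⁻¹ * u * g)) * g⁻¹) := by group
    have h2 : (g * ((N.x a)⁻¹ * (g⁻¹ * u * g)) * g⁻¹) • (par e cs hcs i S Nd N g z : K ⧸ P.B) =
        par e cs hcs i S Nd N g z := by
      rcases z with _ | t
      · rw [par_none, smul_mk_eq]
        have h3 : g⁻¹ * (g * ((N.x a)⁻¹ * (g⁻¹ * u * g)) * g⁻¹) * g = (N.x a)⁻¹ * (g⁻¹ * u * g) := by group
        rw [h3]
        exact S.le (Nd.le ha)
      · rw [par_some, smul_mk]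
        have h3 : g * ((N.x a)⁻¹ * (g⁻¹ * u * g)) * g⁻¹ * (g * N.x t * (e i : K)) =
            g * ((N.x a)⁻¹ * (g⁻¹ * u * g)) * N.x t * (e i : K) := by group
        rw [h3]
        exact hV _ ha t
    rw [h1, mul_smul, h2, hxact]


end Field

namespace Uni

open Cfsg.Agent.FixBN.UNode Cfsg.Agent.FixBN.U3Model Cfsg.Agent.FixBN.U3Core Cfsg.Agent.FixBN.RankOneU3
  Cfsg.Agent.FixBN.UNode.UNode

local notation "tl" => U3Model.tr

theorem iso_of_model {G C : Type*} [Group G] [MulAction G C] {F : Type*} [Field F] {σ : F →+* F} [Inv2 σ]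
    (U : C → Subgroup G)
    (hU : ∀ (g : G) (x : C), ∀ u ∈ U x, g * u * g⁻¹ ∈ U (g • x)) {Q : Set C} (φ : Om σ ≃ Q) (xx : Pt σ → G) (s : G)
    (hx : ∀ a z, xx a • (φ z : C) = φ (tl a z)) (hs : ∀ z, s • (φ z : C) = φ (jj z))
    (hxU : ∀ a, xx a ∈ U (φ none)) (hUx : ∀ u ∈ U (φ none), ∃ a, ∀ z, u • (φ z : C) = φ (tl a z))
    {fam : Q → Subgroup (Equiv.Perm Q)}
    (hfam : ∀ y g, g ∈ fam y ↔ ∃ u ∈ U y, ∀ z, (g z : C) = u • (z : C)) :
    ∀ y g, g ∈ u3Fam σ y ↔ φ.permCongr g ∈ fam (φ y) := by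
  have htoPt : ∀ y : Om σ, RankOneU3.toPt y (none : Om σ) = y := by
    rintro (_ | x)
    · rfl
    · show tl x (jj none) = some x
      rw [jj_none, U3Model.tr_some, mul_one]
  -- the element of `G` acting as `RankOneU3.toPt y`
  have hk : ∀ y : Om σ, ∃ k : G, ∀ z, k • (φ z : C) = φ (RankOneU3.toPt y z) := by
    rintro (_ | t)
    · exact ⟨1, fun z => by rw [one_smul]; rfl⟩
    · refine ⟨xx t * s, fun z => ?_⟩
      rw [mul_smul, hs, hx]
      rfl
  intro y g
  obtain ⟨k, hk⟩ := hk y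
  have hky : k • (φ none : C) = φ y := by rw [hk, htoPt]
  have hk' : ∀ z, k⁻¹ • (φ z : C) = φ ((RankOneU3.toPt y)⁻¹ z) := by
    intro z
    rw [inv_smul_eq_iff, hk]
    congr 2
    exact ((RankOneU3.toPt y).apply_symm_apply z).symm
  rw [hfam]
  constructor
  · rintro ⟨a, rfl⟩
    refine ⟨k * xx a * k⁻¹, ?_, ?_⟩
    · rw [← hky]
      exact hU k _ _ (hxU a)
    · intro z
      obtain ⟨z, rfl⟩ := φ.surjective z
      rw [mul_smul, mul_smul, hk', hx, hk]
      congr 1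
      show φ ((RankOneU3.toPt y * tl a * (RankOneU3.toPt y)⁻¹) (φ.symm (φ z))) = _
      rw [φ.symm_apply_apply]
      rfl
  · rintro ⟨u, hu, h⟩
    have hv : k⁻¹ * u * k ∈ U (φ none) := by
      have h1 := hU k⁻¹ _ u hu
      rwa [inv_inv, ← hky, inv_smul_smul] at h1
    obtain ⟨a, ha⟩ := hUx _ hv
    refine ⟨a, ?_⟩
    apply Equiv.ext
    intro z
    apply φ.injective
    apply Subtype.ext
    have h1 := h (φ z)
    have h2 : φ.permCongr g (φ z) = φ (g z) := by
      show φ (g (φ.symm (φ z))) = _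
      rw [φ.symm_apply_apply]
    rw [h2] at h1
    rw [h1]
    have h3 : u = k * (k⁻¹ * u * k) * k⁻¹ := by group
    rw [h3, mul_smul, mul_smul, hk', ha, hk]
    rfl


variable {K : Type*} [Group K] {P : Cfsg.BNPair K} {U V : Subgroup K} {s : K} {F : Type*} [Field F]
  {σ : F →+* F} [Inv2 σ] (N : UNode P U s V σ)
variable [hN : ((P.B ⊓ P.N).subgroupOf P.N).Normal] {p : ℕ} (S : Split P p U)
variable {I : Type*} {M : CoxeterMatrix I} (e : I ≃ P.S) (cs : CoxeterSystem M (WP P))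
  (hcs : ∀ i, cs.simple i = QuotientGroup.mk (⟨(e i : K), P.subset (e i).2⟩ : P.N)) (i : I)

include S in
/-- The panel is the set of isotropic points, and the root groups are the standard ones. -/
theorem iso_mk (Nd : Node P U (e i : K) V) (N : UNode P U (e i : K) V σ) (g : K)
    {fam : (bldg P e cs hcs).Pan i (QuotientGroup.mk g) →
      Subgroup (Equiv.Perm ((bldg P e cs hcs).Pan i (QuotientGroup.mk g)))}
    (hfam : ∀ y f, f ∈ fam y ↔ ∃ u ∈ UU P U (y : K ⧸ P.B), ∀ z, (f z : K ⧸ P.B) = u • (z : K ⧸ P.B)) :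
    ∀ y f, f ∈ u3Fam σ y ↔ (par e cs hcs i S Nd N g).permCongr f ∈ fam (par e cs hcs i S Nd N g y) := by
  have hBx : ∀ a, N.x a ∈ P.B := fun a => S.le (N.mem a)
  -- the action of `V`
  have hV : ∀ v ∈ V, ∀ a : Pt σ, (QuotientGroup.mk (g * v * N.x a * (e i : K)) : K ⧸ P.B) =
      QuotientGroup.mk (g * N.x a * (e i : K)) := by
    intro v hv a
    rw [mk_eq]
    have h1 : (g * v * N.x a * (e i : K))⁻¹ * (g * N.x a * (e i : K)) =
        ((e i : K)⁻¹ * ((N.x a)⁻¹ * v * (N.x a)⁻¹⁻¹) * (e i : K))⁻¹ := by group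
    rw [h1]
    exact inv_mem (S.le (Nd.le (Nd.conj_s _ (Nd.conj_B _ (inv_mem (hBx a)) _ hv))))
  have hxact : ∀ a z, (g * N.x a * g⁻¹) • (par e cs hcs i S Nd N g z : K ⧸ P.B) =
      par e cs hcs i S Nd N g (tl a z) := by
    rintro a (_ | t)
    · rw [U3Model.tr_none, par_none, smul_mk, mk_eq]
      have h1 : (g * N.x a * g⁻¹ * g)⁻¹ * g = (N.x a)⁻¹ := by group
      rw [h1]
      exact inv_mem (hBx a)
    · rw [U3Model.tr_some, par_some, par_some, smul_mk, N.mul]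
      congr 1
      group
  refine iso_of_model (UU P U) (fun g x u hu => (smul_UU S).2 hu) (par e cs hcs i S Nd N g)
    (fun a => g * N.x a * g⁻¹) (g * (e i : K) * g⁻¹) hxact ?_ ?_ ?_ hfam
  · rintro (_ | t)
    · rw [jj_none, par_none, par_some, smul_mk, N.x_one]
      congr 1
      group
    · by_cases ht : t = 1
      · subst ht
        rw [jj_one, par_none, par_some, smul_mk, mk_eq, N.x_one]
        have h1 : (g * (e i : K) * g⁻¹ * (g * 1 * (e i : K)))⁻¹ * g = ((e i : K) * (e i : K))⁻¹ := by group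
        rw [h1]
        exact inv_mem (P.sq_mem _ (e i).2)
      · rw [jj_some ht, par_some, par_some, smul_mk, mk_eq]
        have h1 : (g * (e i : K) * g⁻¹ * (g * N.x t * (e i : K)))⁻¹ * (g * N.x (J t) * (e i : K)) =
            ((N.x (J t) * (e i : K))⁻¹ * ((e i : K) * N.x t * (e i : K)))⁻¹ := by group
        rw [h1]
        exact inv_mem (N.inv t ht)
  · intro a
    rw [par_none, mem_UU S]
    have h1 : g⁻¹ * (g * N.x a * g⁻¹) * g = N.x a := by group
    rw [h1]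
    exact N.mem a
  · intro u hu
    rw [par_none, mem_UU S] at hu
    obtain ⟨a, ha⟩ := N.cover _ hu
    refine ⟨a, fun z => ?_⟩
    have h1 : u = (g * N.x a * g⁻¹) * (g * ((N.x a)⁻¹ * (g⁻¹ * u * g)) * g⁻¹) := by group
    have h2 : (g * ((N.x a)⁻¹ * (g⁻¹ * u * g)) * g⁻¹) • (par e cs hcs i S Nd N g z : K ⧸ P.B) =
        par e cs hcs i S Nd N g z := by
      rcases z with _ | t
      · rw [par_none, smul_mk_eq]
        have h3 : g⁻¹ * (g * ((N.x a)⁻¹ * (g⁻¹ * u * g)) * g⁻¹) * g = (N.x a)⁻¹ * (g⁻¹ * u * g) := by group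
        rw [h3]
        exact S.le (Nd.le ha)
      · rw [par_some, smul_mk]
        have h3 : g * ((N.x a)⁻¹ * (g⁻¹ * u * g)) * g⁻¹ * (g * N.x t * (e i : K)) =
            g * ((N.x a)⁻¹ * (g⁻¹ * u * g)) * N.x t * (e i : K) := by group
        rw [h3]
        exact hV _ ha t
    rw [h1, mul_smul, h2, hxact]


end Uni

section

open Cfsg.Agent.FixBN.U3Model Cfsg.Agent.FixBN.U3Core Cfsg.Agent.FixBN.RankOneU3

variable {K : Type*} [Group K] [Finite K] {P : Cfsg.BNPair K} {U : Subgroup K} {p : ℕ} [Fact p.Prime]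
  [hN : ((P.B ⊓ P.N).subgroupOf P.N).Normal] (S : Split P p U)
  {I : Type*} {M : CoxeterMatrix I} (e : I ≃ P.S) (cs : CoxeterSystem M (WP P))
  (hcs : ∀ i, cs.simple i = QuotientGroup.mk (⟨(e i : K), P.subset (e i).2⟩ : P.N))

/-- **(R1')** -/
theorem cycFam {i : I} (h : GoodNode P U (e i : K)) (x : K ⧸ P.B) :
    CycFam ((OfBN.sys e cs hcs S).fam i x) := by
  induction x using QuotientGroup.induction_on with
  | _ g =>
  obtain ⟨V, Nd, ⟨F, _, _, h2, ⟨N⟩⟩ | ⟨F, _, σ, _, hσ, ⟨N⟩⟩⟩ := h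
  · exact (cycFam_lineFam h2).map _ (iso_mk S e cs hcs i Nd N g fun y f => Iff.rfl)
  · exact (CycU3.cycFam_u3Fam hσ).map _ (Uni.iso_mk S e cs hcs i Nd N g fun y f => Iff.rfl)

end

end Cfsg.Agent.H14.CycNode
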