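import Cfsg.Agent.H171.Odd.Tools
import Cfsg.Agent.CpAut.SmallP.TwoPart
import Cfsg.Agent.H647.SpF.HSMcL
import Cfsg.Agent.H47.MeetONan
import Cfsg.Agent.NotCT.Orders

/-!
# `Inv1 2 t` for some sporadic groups (helper14)

No nontrivial 5-subgroup of `J2`, `HS`, `McL`, `He` and no nontrivial 7-subgroup of `He`, `ON` is normalised by a
Sylow 2-subgroup.
-/

set_option autoImplicit false

namespace Cfsg.Agent.H14.InvTwoA

open Subgroup Cfsg Cfsg.Agent.H171.Odd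

universe u

variable {G : Type u} [Group G] [Finite G]

theorem pows_five {b k : ℕ} (hb : b ≤ 3) (h1 : 1 ≤ k) (h2 : k ≤ b) : ¬ 2 ^ (3 + 1) ∣ 5 ^ k - 1 := by
  have : k = 1 ∨ k = 2 ∨ k = 3 := by omega
  rcases this with rfl | rfl | rfl <;> norm_num

theorem pows_seven {b k : ℕ} (hb : b ≤ 3) (h1 : 1 ≤ k) (h2 : k ≤ b) : ¬ 2 ^ (4 + 1) ∣ 7 ^ k - 1 := by
  have : k = 1 ∨ k = 2 ∨ k = 3 := by omega
  rcases this with rfl | rfl | rfl <;> norm_num

theorem inv_j2 (h : Spor.IsoJ2 G) : Inv1 2 5 G := by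
  have hc := NotCT.Orders.j2 h
  refine inv1_of_cent (a := 4) (b := 2) (w := 3) Nat.prime_two Nat.prime_five ?_ ?_
    (fun k h1 h2 => pows_five (by norm_num) h1 h2) (fun y hy hd => ?_)
  · rw [hc]; norm_num
  · rw [hc]; norm_num
  · exact Cfsg.Agent.CpAut.SmallP.J2.not_eight h hy ((by norm_num : 8 ∣ 2 ^ 4).trans hd)

theorem inv_mcl (h : Spor.IsoMcL G) : Inv1 2 5 G := by
  have hc := NotCT.Orders.mcl h
  refine inv1_of_cent (a := 4) (b := 3) (w := 3) Nat.prime_two Nat.prime_five ?_ ?_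
    (fun k h1 h2 => pows_five (by norm_num) h1 h2) (fun y hy hd => ?_)
  · rw [hc]; norm_num
  · rw [hc]; norm_num
  · exact Cfsg.Agent.CpAut.SmallP.McL.not_four h hy ((by norm_num : 4 ∣ 2 ^ 4).trans hd)

theorem inv_hs (h : Spor.IsoHS G) : Inv1 2 5 G := by
  have hc := NotCT.Orders.hs h
  refine inv1_of_cent (a := 6) (b := 3) (w := 3) Nat.prime_two Nat.prime_five ?_ ?_
    (fun k h1 h2 => pows_five (by norm_num) h1 h2) (fun y hy hd => ?_)
  · rw [hc]; norm_num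
  · rw [hc]; norm_num
  · obtain ⟨e⟩ := h
    rw [← Cfsg.Agent.CpAut.SmallP.card_cent_congr e y] at hd
    have h1 := hd.trans (Cfsg.Agent.H647.SpF.HS.five (x := e y) (by rw [MulEquiv.orderOf_eq, hy]))
    norm_num at h1

theorem inv_he_five (h : Spor.IsoHe G) : Inv1 2 5 G := by
  have hc := NotCT.Orders.he h
  refine inv1_of_cent (a := 7) (b := 2) (w := 3) Nat.prime_two Nat.prime_five ?_ ?_
    (fun k h1 h2 => pows_five (by norm_num) h1 h2) (fun y hy hd => ?_)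
  · rw [hc]; norm_num
  · rw [hc]; norm_num
  · exact Cfsg.Agent.CpAut.SmallP.He.not_eight_five h hy ((by norm_num : 8 ∣ 2 ^ 7).trans hd)

theorem inv_he_seven (h : Spor.IsoHe G) : Inv1 2 7 G := by
  have hc := NotCT.Orders.he h
  refine inv1_of_cent (a := 6) (b := 3) (w := 4) Nat.prime_two (by norm_num) ?_ ?_
    (fun k h1 h2 => pows_seven (by norm_num) h1 h2) (fun y hy hd => ?_)
  · rw [hc]; norm_num
  · rw [hc]; norm_num
  · exact Cfsg.Agent.CpAut.SmallP.He.not_sixteen_seven h hy ((by norm_num : 16 ∣ 2 ^ 6).trans hd)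

theorem inv_he (h : Spor.IsoHe G) : Inv1 2 5 G ∧ Inv1 2 7 G := ⟨inv_he_five h, inv_he_seven h⟩

theorem inv_on (h : Spor.IsoON G) : Inv1 2 7 G := by
  have hc := NotCT.Orders.on h
  refine inv1_of_cent (a := 5) (b := 3) (w := 4) Nat.prime_two (by norm_num) ?_ ?_
    (fun k h1 h2 => pows_seven (by norm_num) h1 h2) (fun y hy hd => ?_)
  · rw [hc]; norm_num
  · rw [hc]; norm_num
  · obtain ⟨e⟩ := h
    rw [← Cfsg.Agent.CpAut.SmallP.card_cent_congr e y] at hd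
    exact Cfsg.Agent.H47.MeetS.ONan.not_eight (x := e y) (by rw [MulEquiv.orderOf_eq, hy]) ((by norm_num : 2 ^ (2 + 1) ∣ 2 ^ 5).trans hd)

end Cfsg.Agent.H14.InvTwoA
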