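import Cfsg.Agent.H14.HallEight
import Cfsg.Agent.H553.GoodLems
import Cfsg.Agent.H571.AbSylTwo
import Cfsg.Agent.NotResT.JOne
import Cfsg.Agent.S1156
import Cfsg.Agent.S1157

/-!
# S4312: the rows `²G₂(q)` and `J₁` (helper14)
-/

set_option autoImplicit false

namespace Cfsg.Agent.H14.RowReeJOne

open Subgroup Cfsg
open Cfsg.Agent.H988.CPi Cfsg.Agent.H553.OddHall Cfsg.Agent.H553.ExtRed

universe u

variable {π : Set ℕ}

/-- The data used. -/
def Eight (S : Type*) [Group S] [Finite S] : Prop :=
  (∀ P : Sylow 2 S, Nat.card P = 8 ∧ (∀ x ∈ P, x * x = 1) ∧ centralizer ((P : Subgroup S) : Set S) ≤ P ∧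
    Nat.card (normalizer ((P : Subgroup S) : Set S)) ∣ 168) ∧
    ∀ r : ℕ, r.Prime → 5 ≤ r → ∀ R : Subgroup S, IsPGroup r R → IsCyclic R

theorem good_of_eight {S : Type u} [Group S] [Finite S] [IsSimpleGroup S] (hna : ¬ IsMulCommutative S)
    (h2 : 2 ∈ π) (h3 : 3 ∉ π) (hodd : OddC S) (hE : IsEPiGroup π S) (h8 : Eight S) : Good π S := by
  have hf2 : Fact (Nat.Prime 2) := ⟨Nat.prime_two⟩
  obtain ⟨H, hH⟩ := hE
  have hH3 : ¬ 3 ∣ Nat.card H := fun h => h3 (hH.1 3 Nat.prime_three h)
  have hi2 : ¬ 2 ∣ H.index := hH.2 2 Nat.prime_two h2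
  obtain ⟨Q⟩ : Nonempty (Sylow 2 H) := inferInstance
  have hPp : IsPGroup 2 ((Q : Subgroup H).map H.subtype) := Q.2.map _
  have hPi : ¬ 2 ∣ ((Q : Subgroup H).map H.subtype).index := by
    rw [index_map_subtype]
    intro h
    rcases (Nat.prime_two.dvd_mul).1 h with h | h
    · exact Q.not_dvd_index h
    · exact hi2 h
  set P : Sylow 2 S := hPp.toSylow hPi with hP
  have hPe : (P : Subgroup S) = (Q : Subgroup H).map H.subtype := rfl
  obtain ⟨hP8, hPs, hPC, hPN⟩ := h8.1 P
  have hPH : (P : Subgroup S) ≤ H := by rw [hPe]; exact map_subtype_le _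
  have hQP : ∀ x : H, x ∈ (Q : Subgroup H) ↔ (x : S) ∈ (P : Subgroup S) := by
    intro x
    rw [hPe, mem_map]
    constructor
    · intro h; exact ⟨x, h, rfl⟩
    · rintro ⟨y, hy, hyx⟩
      have : y = x := Subtype.ext hyx
      rwa [← this]
  have hQ8 : Nat.card Q = 8 := by
    rw [← hP8]
    exact (card_map_of_injective H.subtype_injective).symm
  have hd := HallEight.dichotomy Q hQ8 (fun x hx => Subtype.ext (hPs x ((hQP x).1 hx))) (by
      intro x hx
      rw [hQP]
      apply hPC
      rw [mem_centralizer_iff] at hx ⊢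
      intro y hy
      have := hx ⟨y, hPH hy⟩ ((hQP _).2 hy)
      exact congrArg Subtype.val this) (by
      refine dvd_trans ?_ hPN
      have h1 : (normalizer ((Q : Subgroup H) : Set H)).map H.subtype ≤ normalizer ((P : Subgroup S) : Set S) := by
        rintro _ ⟨x, hx, rfl⟩
        apply mem_normalizer_fintype
        intro y hy
        exact (hQP _).1 ((mem_normalizer_iff.1 hx ⟨y, hPH hy⟩).1 ((hQP _).2 hy))
      have h2 := card_dvd_of_le h1
      rwa [card_map_of_injective H.subtype_injective] at h2) hH3 (by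
      intro r hr h5 R hR
      have := h8.2 r hr h5 _ (hR.map H.subtype)
      exact isCyclic_of_injective (R.equivMapOfInjective _ H.subtype_injective).toMonoidHom
        (R.equivMapOfInjective _ H.subtype_injective).injective)
  rcases hd with hd | ⟨N, hN, hc⟩
  · refine good_of_sylow hna P ?_ H hH ?_
    · have h1 : Nat.card P ∣ Nat.card S := card_subgroup_dvd_card _
      rw [hP8] at h1
      exact (show 2 ∣ 8 by norm_num).trans h1
    · intro g hg
      apply mem_normalizer_fintype
      intro y hy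
      exact (hQP (⟨g, hg⟩ * ⟨y, hPH hy⟩ * ⟨g, hg⟩⁻¹)).1 (hd.conj_mem _ ((hQP ⟨y, hPH hy⟩).2 hy) ⟨g, hg⟩)
  · refine good_of_oddClosed hna hodd H hH h2 ?_
    have hcard := hc.card_mul_card
    rw [hQ8] at hcard
    have hoddN : Odd (Nat.card N) := by
      rw [← Nat.not_even_iff_odd, even_iff_two_dvd]
      rintro ⟨k, hk⟩
      apply Q.not_dvd_index
      refine ⟨k, ?_⟩
      have h1 := (Q : Subgroup H).card_mul_index
      rw [hQ8, ← hcard, hk] at h1
      omega
    have key : ∀ x : H, Odd (orderOf x) → x ∈ N := by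
      intro x hx
      rw [← QuotientGroup.eq_one_iff]
      have h1 : orderOf (x : H ⧸ N) ∣ orderOf x := orderOf_map_dvd (QuotientGroup.mk' N) x
      have h2 : orderOf (x : H ⧸ N) ∣ 8 := by
        have h3 := orderOf_dvd_natCard (x : H ⧸ N)
        rw [← index_eq_card] at h3
        have h4 := N.card_mul_index
        rw [← hcard] at h4
        have h5 := Nat.eq_of_mul_eq_mul_left Nat.card_pos h4
        rwa [h5] at h3
      have h3 : Nat.Coprime (orderOf x) 8 := by
        rw [show (8 : ℕ) = 2 ^ 3 by norm_num]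
        exact (Nat.coprime_two_right.2 hx).pow_right 3
      have h4 : orderOf (x : H ⧸ N) = 1 := Nat.eq_one_of_dvd_coprimes h3 h1 h2
      exact orderOf_eq_one_iff.1 h4
    intro x y hx hy
    have h1 := mul_mem (key x hx) (key y hy)
    have h2 : orderOf (⟨x * y, h1⟩ : N) ∣ Nat.card N := orderOf_dvd_natCard _
    rw [← orderOf_coe] at h2
    exact Odd.of_dvd_nat hoddN h2

theorem Eight.of_equiv {S S' : Type*} [Group S] [Finite S] [Group S'] [Finite S'] (e : S ≃* S') (h : Eight S) :
    Eight S' := by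
  have hf2 : Fact (Nat.Prime 2) := ⟨Nat.prime_two⟩
  refine ⟨fun P' => ?_, fun r hr h5 R hR => ?_⟩
  · have hsurj : Function.Surjective e.symm.toMonoidHom := e.symm.surjective
    set P : Sylow 2 S := P'.mapSurjective hsurj with hP
    have hmem : ∀ x : S', x ∈ (P' : Subgroup S') ↔ e.symm x ∈ (P : Subgroup S) := by
      intro x
      rw [hP, Sylow.coe_mapSurjective, mem_map]
      constructor
      · intro h; exact ⟨x, h, rfl⟩
      · rintro ⟨y, hy, hyx⟩
        have : y = x := e.symm.injective hyx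
        rwa [← this]
    obtain ⟨h1, h2, h3, h4⟩ := h.1 P
    refine ⟨?_, ?_, ?_, ?_⟩
    · rw [← h1]
      exact (card_map_of_injective e.symm.injective).symm
    · intro x hx
      apply e.symm.injective
      rw [map_mul, map_one]
      exact h2 _ ((hmem x).1 hx)
    · intro x hx
      rw [hmem]
      apply h3
      rw [mem_centralizer_iff] at hx ⊢
      intro y hy
      have h5 := hx (e y) (by
        show e y ∈ (P' : Subgroup S')
        rw [hmem, e.symm_apply_apply]; exact hy)
      have h6 := congrArg e.symm h5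
      rwa [map_mul, map_mul, e.symm_apply_apply] at h6
    · have h5 : (normalizer ((P' : Subgroup S') : Set S')).map e.symm.toMonoidHom =
          normalizer ((P : Subgroup S) : Set S) :=
        map_normalizer_eq_of_bijective _ (f := e.symm.toMonoidHom) e.symm.bijective
      rw [← h5, card_map_of_injective e.symm.injective] at h4
      exact h4
  · have h1 := h.2 r hr h5 _ (hR.map e.symm.toMonoidHom)
    exact isCyclic_of_injective (R.equivMapOfInjective e.symm.toMonoidHom e.symm.injective).toMonoidHom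
      (R.equivMapOfInjective e.symm.toMonoidHom e.symm.injective).injective

/-- the Ree groups -/
theorem eight_ree {S : Type*} [Group S] [Finite S] (h : Lie.IsoRee S) : Eight S := by
  obtain ⟨F, _, _, m, hm, hF, ⟨e⟩⟩ := h
  refine Eight.of_equiv e.symm ?_
  obtain ⟨u, huH, hu1, hu2⟩ := Cfsg.Agent.S1157.exists_involution hF
  obtain ⟨-, hS⟩ := Cfsg.Agent.S1152.result hF u huH hu1 hu2
  refine ⟨fun P => ?_, fun r hr h5 R hR => ?_⟩
  · obtain ⟨h1, h2⟩ := hS P
    obtain ⟨h3, h4⟩ := Cfsg.Agent.S1157.result hm hF P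
    exact ⟨h1, h2, h3.le, h4 ▸ dvd_rfl⟩
  · have : Fact r.Prime := ⟨hr⟩
    obtain ⟨P, hP⟩ := hR.exists_le_sylow
    have hc := Cfsg.Agent.S1156.result hm hF (show 3 < r by omega) P
    exact isCyclic_of_injective (inclusion hP) (inclusion_injective hP)

/-- the first Janko group -/
theorem eight_jOne {S : Type*} [Group S] [Finite S] (h : Spor.IsoJ1 S) : Eight S := by
  have hf2 : Fact (Nat.Prime 2) := ⟨Nat.prime_two⟩
  obtain ⟨e⟩ := h
  have hfin : Finite Spor.J1 := NotResT.JOne.finite
  have hs := NotResT.JOne.simple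
  refine Eight.of_equiv e.symm ?_
  have hJR := NotResT.JOne.isJR Walter.StepAll.step
  refine ⟨fun P => ?_, fun r hr h5 R hR => ?_⟩
  · obtain ⟨h1, h2, h3⟩ := Walter.PSLFacts.IsJR.facts hJR P
    refine ⟨h2, h1, h3, ?_⟩
    obtain ⟨h4, -⟩ := H571.AbSylTwo.jr NotResT.JOne.not_comm hJR P
    have h5 : centralizer ((P : Subgroup Spor.J1) : Set Spor.J1) = P := by
      apply le_antisymm h3
      intro a ha
      rw [mem_centralizer_iff]
      intro b hb
      have h6 := h1 a ha
      have h7 := h1 b hb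
      have h8 := h1 _ (mul_mem ha hb)
      calc b * a = (a * b)⁻¹ := by
            rw [mul_inv_rev, inv_eq_of_mul_eq_one_right h6, inv_eq_of_mul_eq_one_right h7]
        _ = a * b := inv_eq_of_mul_eq_one_right h8
    have h9 := Lib.HallHigman.card_mul_relIndex' (show (P : Subgroup Spor.J1) ≤ normalizer ((P : Subgroup Spor.J1) : Set Spor.J1) from
      le_normalizer)
    rw [h5] at h4
    rw [h4, h2] at h9
    rw [← h9]
  · have : Fact r.Prime := ⟨hr⟩
    obtain ⟨k, hk⟩ := IsPGroup.iff_card.1 hR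
    have h1 : r ^ k ∣ 175560 := by
      rw [← hk, ← NotResT.JOne.card]
      exact card_subgroup_dvd_card R
    have hk1 : k ≤ 1 := by
      by_contra hk1
      have h2 : r ^ 2 ∣ 175560 := (pow_dvd_pow r (by omega)).trans h1
      have h3 : r ∣ 175560 := (dvd_pow_self r (by norm_num)).trans h2
      rw [show 175560 = 2 ^ 3 * 3 * 5 * 7 * 11 * 19 by norm_num] at h3
      have key : ∀ q : ℕ, q.Prime → r ∣ q → r = q := fun q hq hd => (Nat.prime_dvd_prime_iff_eq hr hq).1 hd
      have h4 : r = 2 ∨ r = 3 ∨ r = 5 ∨ r = 7 ∨ r = 11 ∨ r = 19 := by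
        rcases (hr.dvd_mul).1 h3 with h3 | h3
        · rcases (hr.dvd_mul).1 h3 with h3 | h3
          · rcases (hr.dvd_mul).1 h3 with h3 | h3
            · rcases (hr.dvd_mul).1 h3 with h3 | h3
              · rcases (hr.dvd_mul).1 h3 with h3 | h3
                · exact Or.inl (key 2 Nat.prime_two (hr.dvd_of_dvd_pow h3))
                · exact Or.inr (Or.inl (key 3 (by norm_num) h3))
              · exact Or.inr (Or.inr (Or.inl (key 5 (by norm_num) h3)))
            · exact Or.inr (Or.inr (Or.inr (Or.inl (key 7 (by norm_num) h3))))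
          · exact Or.inr (Or.inr (Or.inr (Or.inr (Or.inl (key 11 (by norm_num) h3)))))
        · exact Or.inr (Or.inr (Or.inr (Or.inr (Or.inr (key 19 (by norm_num) h3)))))
      rcases h4 with h4 | h4 | h4 | h4 | h4 | h4 <;> rw [h4] at h2 h5 <;> omega
    interval_cases k
    · rw [pow_zero, card_eq_one] at hk
      rw [hk]
      infer_instance
    · rw [pow_one] at hk
      exact isCyclic_of_prime_card hk

theorem good_ree {S : Type u} [Group S] [Finite S] [IsSimpleGroup S] (h : Lie.IsoRee S)
    (hna : ¬ IsMulCommutative S) (h2 : 2 ∈ π) (h3 : 3 ∉ π) (hodd : OddC S) (hE : IsEPiGroup π S) :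
    PiN π (Nat.card S) ∨ Good π S := Or.inr (good_of_eight hna h2 h3 hodd hE (eight_ree h))

theorem good_jOne {S : Type u} [Group S] [Finite S] [IsSimpleGroup S] (h : Spor.IsoJ1 S)
    (hna : ¬ IsMulCommutative S) (h2 : 2 ∈ π) (h3 : 3 ∉ π) (hodd : OddC S) (hE : IsEPiGroup π S) :
    PiN π (Nat.card S) ∨ Good π S := Or.inr (good_of_eight hna h2 h3 hodd hE (eight_jOne h))

end Cfsg.Agent.H14.RowReeJOne
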